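import Groth.Agent.AbSchX.CubeBase.Global
import Groth.Agent.AbSchX.AbBasic
import Groth.Agent.Lib.AVCube
import Groth.Agent.PicFRel.UnivH0
import Groth.Prelude.Def_CohB1

/-! The theorem of the cube for an abelian scheme, and the pullback along multiples of the identity. -/

set_option autoImplicit false
set_option linter.style.haveILetI false
universe u

open CategoryTheory Limits AlgebraicGeometry MonoidalCategory CartesianMonoidalCategory MonObj TopologicalSpace Opposite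

namespace Groth.Agent.AbSchX.CubeBase

open Groth.Agent.H23
open scoped Groth.Agent.H23.PicMul

variable {S : Scheme.{u}} {X : Over S} {L : X.left.Modules} (hL : PicF.IsInvertible L)

/-- The class of the pullback along a point. -/
noncomputable def pc {T : Over S} (f : T ⟶ X) : (PicF.Cl T.left)ˣ :=
  (PicMul.isUnit_of_isInvertibleCl (PicClLib.isInvertibleCl_pullCl f.left ⟨L, rfl, hL⟩)).unit

theorem val_pc {T : Over S} (f : T ⟶ X) :
    (pc hL f : PicF.Cl T.left) = PicF.cl ((Scheme.Modules.pullback f.left).obj L) := rfl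

theorem pull_pc {T T' : Over S} (φ : T' ⟶ T) (f : T ⟶ X) :
    Units.map (PicMul.pullHom φ.left : PicF.Cl T.left →* PicF.Cl T'.left) (pc hL f) = pc hL (φ ≫ f) := by
  ext
  show PicF.pullCl φ.left (PicF.pullCl f.left (PicF.cl L)) = PicF.pullCl (φ ≫ f).left (PicF.cl L)
  rw [PicClLib.pullCl_comp, Over.comp_left]

variable [GrpObj X]

/-- The combination of the eight pullbacks. -/
noncomputable def comb {T : Over S} (f g h : T ⟶ X) : (PicF.Cl T.left)ˣ :=
  pc hL (f * g * h) * pc hL f * pc hL g * pc hL h /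
    (pc hL (f * g) * pc hL (f * h) * pc hL (g * h) * pc hL (1 : T ⟶ X))

theorem pull_comb {T T' : Over S} (φ : T' ⟶ T) (f g h : T ⟶ X) :
    Units.map (PicMul.pullHom φ.left : PicF.Cl T.left →* PicF.Cl T'.left) (comb hL f g h) =
      comb hL (φ ≫ f) (φ ≫ g) (φ ≫ h) := by
  simp only [comb, map_mul, map_div, pull_pc, MonObj.comp_mul, MonObj.comp_one]

theorem comb_eq_one_of_one {T : Over S} {f g h : T ⟶ X} (H : f = 1 ∨ g = 1 ∨ h = 1) : comb hL f g h = 1 := by
  rw [comb, div_eq_one]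
  rcases H with rfl | rfl | rfl <;> simp only [_root_.one_mul, _root_.mul_one] <;> ac_rfl

theorem isInvertibleCl_unit {T : Scheme.{u}} {u : (PicF.Cl T)ˣ} (hu : PicF.IsInvertibleCl (u : PicF.Cl T)) :
    PicF.IsInvertibleCl ((u⁻¹ : (PicF.Cl T)ˣ) : PicF.Cl T) := by
  obtain ⟨M, hM, hMi⟩ := hu
  obtain ⟨D, hD, e⟩ := PicInv.exists_inverse hMi
  refine ⟨D, ?_, hD⟩
  refine left_inv_eq_right_inv (a := PicF.cl M) ?_ ?_
  · rw [mul_comm]
    exact (PicGrp.cl_eq_cl_iff _ _).2 e
  · rw [hM]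
    exact Units.mul_inv u

omit [GrpObj X] in
theorem isInvertibleCl_pc {T : Over S} (f : T ⟶ X) : PicF.IsInvertibleCl (pc hL f : PicF.Cl T.left) :=
  PicClLib.isInvertibleCl_pullCl f.left ⟨L, rfl, hL⟩

theorem isInvertibleCl_comb {T : Over S} (f g h : T ⟶ X) :
    PicF.IsInvertibleCl (comb hL f g h : PicF.Cl T.left) := by
  rw [comb, div_eq_mul_inv, Units.val_mul]
  refine PicMul.isInvertibleCl_mul ?_ (isInvertibleCl_unit ?_) <;> simp only [Units.val_mul] <;>
    repeat (first | exact isInvertibleCl_pc hL _ | refine PicMul.isInvertibleCl_mul ?_ (isInvertibleCl_pc hL _))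

/-- The combination is trivial on each fibre. -/
theorem pullHom_comb_fibre [IsProper X.hom] [GeometricallyIntegral X.hom] {T : Over S} (f g h : T ⟶ X)
    (K : Type u) [Field K] (k : Spec (CommRingCat.of K) ⟶ S) :
    PicMul.pullHom (pullback.fst T.hom k) (comb hL f g h : PicF.Cl T.left) = 1 := by
  let F := Over.pullback k
  let : GrpObj (F.obj X) := Functor.grpObjObj
  haveI : IsProper (F.obj X).hom := inferInstanceAs (IsProper (pullback.snd X.hom k))
  haveI : GeometricallyIntegral (F.obj X).hom := inferInstanceAs (GeometricallyIntegral (pullback.snd X.hom k))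
  let a : (F.obj T).left ⟶ T.left := pullback.fst T.hom k
  have hLK : PicF.IsInvertible ((Scheme.Modules.pullback (pullback.fst X.hom k)).obj L) :=
    PicClLib.isInvertible_pullback _ hL
  have key : ∀ w : T ⟶ X, Units.map (PicMul.pullHom a : PicF.Cl T.left →* PicF.Cl (F.obj T).left) (pc hL w) =
      AVCube.pc (A := F.obj X) hLK (F.homMonoidHom w) := fun w => by
    ext
    show PicF.pullCl a (PicF.pullCl w.left (PicF.cl L)) =
      PicF.pullCl (F.map w).left (PicF.pullCl (pullback.fst X.hom k) (PicF.cl L))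
    rw [PicClLib.pullCl_comp, PicClLib.pullCl_comp]
    congr 1
    exact (pullback.lift_fst _ _ _).symm
  have h1 : Units.map (PicMul.pullHom a : PicF.Cl T.left →* PicF.Cl (F.obj T).left) (comb hL f g h) = 1 := by
    rw [comb, map_div, div_eq_one]
    simp only [map_mul, key, map_one]
    rw [AVCube.pc_one, _root_.mul_one]
    exact AVCube.cube_rel hLK _ _ _
  exact congrArg Units.val h1

/-- The universal combination is trivial over a locally Noetherian base. -/
theorem comb_universal [IsLocallyNoetherian S] [IsProper X.hom] [Flat X.hom] [GeometricallyIntegral X.hom] :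
    comb hL (fst X (X ⊗ X)) (snd X (X ⊗ X) ≫ fst X X) (snd X (X ⊗ X) ≫ snd X X) = 1 := by
  let P := X ⊗ (X ⊗ X)
  let c := comb hL (fst X (X ⊗ X)) (snd X (X ⊗ X) ≫ fst X X) (snd X (X ⊗ X) ≫ snd X X)
  obtain ⟨M, hM, hMi⟩ := isInvertibleCl_comb hL (fst X (X ⊗ X)) (snd X (X ⊗ X) ≫ fst X X) (snd X (X ⊗ X) ≫ snd X X)
  have slice : ∀ {T : Over S} (φ : T ⟶ P),
      (φ ≫ fst X (X ⊗ X) = 1 ∨ φ ≫ snd X (X ⊗ X) ≫ fst X X = 1 ∨ φ ≫ snd X (X ⊗ X) ≫ snd X X = 1) →
        TrivBasic.Triv ((Scheme.Modules.pullback φ.left).obj M) := by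
    intro T φ H
    refine (PicGrp.cl_eq_cl_iff _ _).1 ?_
    show PicF.pullCl φ.left (PicF.cl M) = 1
    rw [hM]
    exact congrArg Units.val ((pull_comb hL φ _ _ _).trans (comb_eq_one_of_one hL H))
  haveI : IsProper (X ⊗ X).hom := inferInstanceAs (IsProper (pullback.fst X.hom X.hom ≫ X.hom))
  haveI : Flat (X ⊗ X).hom := inferInstanceAs (Flat (pullback.fst X.hom X.hom ≫ X.hom))
  have hX0 : ∀ s, SeesawGlobal.FieldH0 X.hom s := fun s =>
    PicFRel.UnivH0.fieldH0_of_fibre X.hom s (RigidApply.constFibres_of_geometricallyIntegral X.hom s)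
  have hY0 : ∀ s, SeesawGlobal.FieldH0 (X ⊗ X).hom s := fun s => fieldH0_prod X.hom X.hom (hX0 s) (hX0 s)
  haveI : IsProper P.hom := inferInstanceAs (IsProper (pullback.fst X.hom (X ⊗ X).hom ≫ X.hom))
  haveI : Flat P.hom := inferInstanceAs (Flat (pullback.fst X.hom (X ⊗ X).hom ≫ X.hom))
  have hP0 : ∀ s, SeesawGlobal.FieldH0 P.hom s := fun s => fieldH0_prod X.hom (X ⊗ X).hom (hX0 s) (hY0 s)
  have hH0 : ∀ V : S.Opens, Function.Bijective (P.hom.app V) := by
    intro V
    have h := PicFRel.UnivH0.bijective_app P.hom (fun s => hP0 s _ _ (Scheme.fromSpecResidueField_apply _ _)) S (𝟙 S) V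
    have e : pullback.snd P.hom (𝟙 S) = pullback.fst P.hom (𝟙 S) ≫ P.hom := by
      rw [pullback.condition, Category.comp_id]
    rw [e, Scheme.Hom.comp_app] at h
    exact (Function.Bijective.of_comp_iff' (ConcreteCategory.bijective_of_isIso
      ((pullback.fst P.hom (𝟙 S)).app (P.hom ⁻¹ᵁ V))) _).1 h
  have h := triv_prod X.hom (X ⊗ X).hom η[X].left (Over.w η[X]) (lift η[X] η[X]).left (Over.w (lift η[X] η[X]))
    M hMi ?_ ?_ hH0 hX0 hY0 fun s K _ k hk => ?_
  · exact Units.ext (hM.symm.trans ((PicGrp.cl_eq_cl_iff _ _).2 h))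
  · exact slice (lift (toUnit (X ⊗ X) ≫ η[X]) (𝟙 (X ⊗ X))) (Or.inl (by rw [lift_fst]; exact (Hom.one_def).symm))
  · exact slice (lift (𝟙 X) (toUnit X ≫ lift η[X] η[X])) (Or.inr (Or.inl (by
      rw [lift_snd_assoc, Category.assoc, lift_fst]; exact (Hom.one_def).symm)))
  · refine (PicGrp.cl_eq_cl_iff _ _).1 ?_
    show PicMul.pullHom (pullback.fst P.hom k) (PicF.cl M) = 1
    rw [hM]
    exact pullHom_comb_fibre hL _ _ _ K k

/-- The theorem of the cube over a locally Noetherian base. -/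
theorem comb_eq_one [IsLocallyNoetherian S] [IsProper X.hom] [Flat X.hom] [GeometricallyIntegral X.hom]
    {T : Over S} (f g h : T ⟶ X) : comb hL f g h = 1 := by
  have e := pull_comb hL (lift f (lift g h)) (fst X (X ⊗ X)) (snd X (X ⊗ X) ≫ fst X X) (snd X (X ⊗ X) ≫ snd X X)
  simp only [comb_universal, map_one, lift_fst, lift_snd_assoc, lift_snd] at e
  exact e.symm

/-- Pullback along a multiple of the identity, given the cube relation. -/
theorem pc_zpow (hcube : ∀ f g h : X ⟶ X, comb hL f g h = 1) (n : ℤ) :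
    pc hL (𝟙 X ^ n) * pc hL (1 : X ⟶ X) ^ (n ^ 2) =
      pc hL (𝟙 X) ^ ((n ^ 2 + n) / 2) * pc hL ((𝟙 X)⁻¹ : X ⟶ X) ^ ((n ^ 2 - n) / 2) * pc hL (1 : X ⟶ X) := by
  set e := pc hL (1 : X ⟶ X)
  set a := pc hL (𝟙 X)
  set b := pc hL ((𝟙 X)⁻¹ : X ⟶ X)
  let F : ℤ → (PicF.Cl X.left)ˣ := fun m => pc hL (𝟙 X ^ m)
  let G : ℤ → (PicF.Cl X.left)ˣ := fun m => a ^ ((m ^ 2 + m) / 2) * b ^ ((m ^ 2 - m) / 2) * e / e ^ (m ^ 2)
  have hrec : ∀ m : ℤ, F (m + 1) * F (m - 1) = F m * F m * a * b / (e * e) := fun m => by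
    have h := hcube (𝟙 X ^ m) (𝟙 X) (𝟙 X)⁻¹
    rw [comb, div_eq_one, mul_inv_cancel_right, mul_inv_cancel, ← zpow_add_one, ← zpow_sub_one] at h
    rw [eq_div_iff_mul_eq', ← _root_.mul_assoc]
    exact h.symm
  have key : ∀ m : ℤ, F m = G m ∧ F (m + 1) = G (m + 1) := by
    have hG : ∀ m : ℤ, G (m + 1) * G (m - 1) = G m * G m * a * b / (e * e) := fun m => by
      obtain ⟨p, hp⟩ := Int.even_mul_succ_self m
      obtain ⟨r, hr⟩ := Int.even_mul_succ_self (m - 1)
      have e1 : ((m + 1) ^ 2 + (m + 1)) / 2 = p + m + 1 := Int.ediv_eq_of_eq_mul_left two_ne_zero (by linarith)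
      have e2 : ((m + 1) ^ 2 - (m + 1)) / 2 = p := Int.ediv_eq_of_eq_mul_left two_ne_zero (by linarith)
      have e3 : (m ^ 2 + m) / 2 = p := Int.ediv_eq_of_eq_mul_left two_ne_zero (by linarith)
      have e4 : (m ^ 2 - m) / 2 = r := Int.ediv_eq_of_eq_mul_left two_ne_zero (by linarith)
      have e5 : ((m - 1) ^ 2 + (m - 1)) / 2 = r := Int.ediv_eq_of_eq_mul_left two_ne_zero (by linarith)
      have e6 : ((m - 1) ^ 2 - (m - 1)) / 2 = r - m + 1 := Int.ediv_eq_of_eq_mul_left two_ne_zero (by linarith)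
      let mk : ℤ → ℤ → ℤ → (PicF.Cl X.left)ˣ := fun x y z => a ^ x * b ^ y * e ^ z
      have hmk : ∀ x y z x' y' z', mk x y z * mk x' y' z' = mk (x + x') (y + y') (z + z') := fun x y z x' y' z' => by
        simp only [mk, zpow_add]; ac_rfl
      have hGmk : ∀ j : ℤ, G j = mk ((j ^ 2 + j) / 2) ((j ^ 2 - j) / 2) (1 - j ^ 2) := fun j => by
        simp only [G, mk, zpow_sub, zpow_one, div_eq_mul_inv, _root_.mul_assoc]
      have hc : a * b / (e * e) = mk 1 1 (-2) := by
        simp only [mk, zpow_one, show (-2 : ℤ) = -1 + -1 by norm_num, zpow_add, zpow_neg, div_eq_mul_inv, mul_inv_rev]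
      rw [show G m * G m * a * b / (e * e) = G m * G m * (a * b / (e * e)) by
        simp only [div_eq_mul_inv, _root_.mul_assoc]]
      rw [hGmk, hGmk, hGmk, hc, hmk, hmk, hmk, e1, e2, e3, e4, e5, e6]
      congr 1 <;> linarith
    intro m
    induction m using Int.induction_on with
    | zero =>
      refine ⟨?_, ?_⟩
      · show pc hL (𝟙 X ^ (0 : ℤ)) = _
        simp [G, e]
      · show pc hL (𝟙 X ^ ((0 : ℤ) + 1)) = _
        simp [G, a, e]
    | succ i ih =>
      refine ⟨ih.2, ?_⟩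
      have h1 := hrec ((i : ℤ) + 1)
      have h2 := hG ((i : ℤ) + 1)
      rw [show (i : ℤ) + 1 - 1 = i by ring, ih.1, ih.2] at h1
      rw [show (i : ℤ) + 1 - 1 = i by ring] at h2
      exact mul_right_cancel (h1.trans h2.symm)
    | pred i ih =>
      refine ⟨?_, by rw [show -(i : ℤ) - 1 + 1 = -i by ring]; exact ih.1⟩
      have h1 := hrec (-(i : ℤ))
      have h2 := hG (-(i : ℤ))
      rw [ih.1, ih.2] at h1
      exact mul_left_cancel (h1.trans h2.symm)
  rw [show pc hL (𝟙 X ^ n) = G n from (key n).1]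
  exact div_mul_cancel _ _

end Groth.Agent.AbSchX.CubeBase

namespace Groth.Agent.AbSchX.CubeBase

open Groth.Agent.H23
open scoped Groth.Agent.H23.PicMul

theorem toNat_half_add (n : ℤ) : (((n ^ 2 + n) / 2).toNat : ℤ) = (n ^ 2 + n) / 2 ∧
    (((n ^ 2 - n) / 2).toNat : ℤ) = (n ^ 2 - n) / 2 := by
  refine ⟨Int.toNat_of_nonneg (Int.ediv_nonneg ?_ (by norm_num)), Int.toNat_of_nonneg (Int.ediv_nonneg ?_ (by norm_num))⟩
  · rcases le_or_gt 0 n with h | h <;> nlinarith
  · rcases le_or_gt n 0 with h | h <;> nlinarith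

/-- The formula for the pullback along a multiple of the identity, with the unit pullbacks on both sides. -/
theorem nonempty_iso_zpow {S : Scheme.{u}} [IsLocallyNoetherian S] (X : Over S) [GrpObj X] [IsProper X.hom]
    [Flat X.hom] [GeometricallyIntegral X.hom] (L : X.left.Modules) (hL : PicF.IsInvertible L) (n : ℤ) :
    Nonempty (CohB1.tensorMod ((Scheme.Modules.pullback (𝟙 X ^ n).left).obj L)
        ((Scheme.Modules.pullback X.hom).obj (CohB1.tensorPow ((Scheme.Modules.pullback (η[X]).left).obj L) (n.natAbs ^ 2))) ≅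
      CohB1.tensorMod (CohB1.tensorMod (CohB1.tensorPow L ((n ^ 2 + n) / 2).toNat)
          ((Scheme.Modules.pullback (𝟙 X ^ (-1 : ℤ)).left).obj (CohB1.tensorPow L ((n ^ 2 - n) / 2).toNat)))
        ((Scheme.Modules.pullback X.hom).obj ((Scheme.Modules.pullback (η[X]).left).obj L))) := by
  have h1 := congrArg Units.val (pc_zpow hL (fun f g h => comb_eq_one hL f g h) n)
  rw [← (toNat_half_add n).1, ← (toNat_half_add n).2,
    show n ^ 2 = ((n.natAbs ^ 2 : ℕ) : ℤ) by rw [Nat.cast_pow, Int.natAbs_sq]] at h1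
  simp only [zpow_natCast, Units.val_mul, Units.val_pow_eq_pow_val] at h1
  rw [show ((n.natAbs ^ 2 : ℕ) : ℤ) = n ^ 2 by rw [Nat.cast_pow, Int.natAbs_sq]] at h1
  have hone : (pc hL (1 : X ⟶ X) : PicF.Cl X.left) =
      PicF.pullCl X.hom (PicF.pullCl (η[X]).left (PicF.cl L)) := by
    rw [PicClLib.pullCl_comp, val_pc]
    rfl
  have hid : (pc hL (𝟙 X) : PicF.Cl X.left) = PicF.cl L := by
    show PicF.pullCl (𝟙 X : X ⟶ X).left (PicF.cl L) = _
    rw [Over.id_left, PicClLib.pullCl_id]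
  have hneg : (pc hL ((𝟙 X)⁻¹ : X ⟶ X) : PicF.Cl X.left) =
      PicF.pullCl (𝟙 X ^ (-1 : ℤ)).left (PicF.cl L) := by
    rw [zpow_neg_one]
    rfl
  rw [hone, hid, hneg] at h1
  refine PicMul.cl_eq_iff.1 ?_
  rw [PicMul.cl_tensor, PicMul.cl_tensor, PicMul.cl_tensor, PicMul.cl_tensorPow]
  show PicF.pullCl (𝟙 X ^ n).left (PicF.cl L) *
      PicF.pullCl X.hom (PicF.cl (CohB1.tensorPow _ (n.natAbs ^ 2))) =
    _ * PicF.pullCl (𝟙 X ^ (-1 : ℤ)).left (PicF.cl (CohB1.tensorPow _ _)) *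
      PicF.pullCl X.hom (PicF.pullCl (η[X]).left (PicF.cl L))
  rw [PicMul.cl_tensorPow, PicMul.cl_tensorPow, PicMul.pullCl_pow, PicMul.pullCl_pow]
  exact h1

end Groth.Agent.AbSchX.CubeBase
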