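import Groth.Agent.AbSchX.CubeBase.Stage

/-! A module on a product of two proper flat schemes over a limit of Noetherian affine schemes, trivial on
both slices and on the fibres, is trivial locally on the base. -/

set_option autoImplicit false
set_option linter.style.haveILetI false
set_option backward.isDefEq.respectTransparency.types false
universe u

open CategoryTheory CategoryTheory.Limits AlgebraicGeometry TopologicalSpace Opposite

namespace Groth.Agent.AbSchX.CubeBase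

open Groth.Agent.InvX Groth.Agent.H23 Groth.Agent.H23.TrivBasic Groth.Agent.MorLib

variable {I : Type u} [SmallCategory I] [IsCofiltered I] {D : I ⥤ Scheme.{u}} {c : Cone D}
  (hc : IsLimit c) (hA : ∀ i, IsAffine (D.obj i))
  {X Y : Scheme.{u}} {pX : X ⟶ c.pt} {pY : Y ⟶ c.pt} {x : c.pt ⟶ X} {y : c.pt ⟶ Y}
  (hx : x ≫ pX = 𝟙 c.pt) (hy : y ≫ pY = 𝟙 c.pt)

omit [IsCofiltered I] in
theorem isSeparated_of_affine_base {Z : Scheme.{u}} {T : Scheme.{u}} [IsAffine T] (f : Z ⟶ T) [IsSeparated f] :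
    Z.IsSeparated := ⟨by rw [← terminal.comp_from f]; infer_instance⟩

include hc hA in
/-- The module on the product comes from a stage. -/
theorem exists_mod_stage {i : I} (a : Stg D c pX x i) (b : Stg D c pY y i)
    (L : (pullback pX pY).Modules) (hL : PicF.IsInvertible L) :
    ∃ (j : I) (φ : j ⟶ i) (M : (pullback (a.push hx φ).f (b.push hy φ).f).Modules), PicF.IsInvertible M ∧
      Nonempty ((Scheme.Modules.pullback (qP (a.push hx φ) (b.push hy φ))).obj M ≅ L) := by
  haveI := hA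
  haveI hAff : ∀ {i j : I} (f : i ⟶ j), IsAffineHom (D.map f) := fun f => isAffineHom_of_isAffine _
  let π₀ := prodHom a.f b.f
  haveI : IsProper π₀ := inferInstanceAs (IsProper (pullback.fst a.f b.f ≫ a.f))
  haveI : CompactSpace ↥(pullback a.f b.f) := QuasiCompact.compactSpace_of_compactSpace π₀
  have hP := isPullback_qP a b
  haveI : ∀ l, CompactSpace ((BC.diag D π₀).obj l) := fun l => BC.compactSpace_obj D π₀ l
  haveI : ∀ l, ((BC.diag D π₀).obj l).IsSeparated := fun l =>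
    haveI : IsSeparated (pullback.snd π₀ (D.map l.hom)) := MorphismProperty.pullback_snd _ _ (inferInstanceAs (IsSeparated π₀))
    @isSeparated_of_affine_base _ (D.obj l.left) (hA _) (pullback.snd π₀ (D.map l.hom)) this
  haveI : ∀ {l l'} (f : l ⟶ l'), IsAffineHom ((BC.diag D π₀).map f) := fun f => BC.isAffineHom_map D π₀ f
  obtain ⟨l, M, hM, ⟨eM⟩⟩ := exists_inv_stage (BC.isLimitCone D π₀ hP hc) L hL
  let e := (isPullback_prodMap a.f b.f (D.map l.hom)).isoPullback
  refine ⟨l.left, l.hom, (Scheme.Modules.pullback e.hom).obj M, PicClLib.isInvertible_pullback _ hM,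
    ⟨(Scheme.Modules.pullbackComp _ _).app M ≪≫ (Scheme.Modules.pullbackCongr ?_).app M ≪≫ eM⟩⟩
  refine pullback.hom_ext ?_ ?_
  · refine (Category.assoc _ _ _).trans ((congrArg (_ ≫ ·) (isPullback_prodMap a.f b.f (D.map l.hom)).isoPullback_hom_fst).trans ?_)
    exact (qP_push a b hx hy l.hom).trans (BC.proj_fst D π₀ hP l).symm
  · refine (Category.assoc _ _ _).trans ((congrArg (_ ≫ ·) (isPullback_prodMap a.f b.f (D.map l.hom)).isoPullback_hom_snd).trans ?_)
    exact (isPullback_qP (a.push hx l.hom) (b.push hy l.hom)).w.trans (BC.proj_snd D π₀ hP l).symm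

include hc hA in
/-- A module trivial on a slice of the limit is trivial on the slice of a stage. -/
theorem exists_triv_slice {i : I} {Z : Scheme.{u}} {pZ : Z ⟶ c.pt} {z : c.pt ⟶ Z} (b : Stg D c pZ z i)
    (M : b.Xi.Modules) (hM : PicF.IsInvertible M) (h : Triv ((Scheme.Modules.pullback b.q).obj M)) :
    ∃ (j : I) (φ : j ⟶ i), Triv ((Scheme.Modules.pullback (pullback.fst b.f (D.map φ))).obj M) := by
  haveI := hA
  haveI hAff : ∀ {i j : I} (f : i ⟶ j), IsAffineHom (D.map f) := fun f => isAffineHom_of_isAffine _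
  haveI : CompactSpace b.Xi := QuasiCompact.compactSpace_of_compactSpace b.f
  haveI : ∀ l, CompactSpace ((BC.diag D b.f).obj l) := fun l => BC.compactSpace_obj D b.f l
  haveI : ∀ l, ((BC.diag D b.f).obj l).IsSeparated := fun l =>
    haveI : IsSeparated (pullback.snd b.f (D.map l.hom)) := MorphismProperty.pullback_snd _ _ (inferInstanceAs (IsSeparated b.f))
    @isSeparated_of_affine_base _ (D.obj l.left) (hA _) (pullback.snd b.f (D.map l.hom)) this
  haveI : ∀ {l l'} (f : l ⟶ l'), IsAffineHom ((BC.diag D b.f).map f) := fun f => BC.isAffineHom_map D b.f f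
  let T : Over i := Over.mk (𝟙 i)
  let M' := (Scheme.Modules.pullback (pullback.fst b.f (D.map T.hom))).obj M
  have h' : Triv ((Scheme.Modules.pullback ((BC.cone D b.f b.sq).π.app T)).obj M') :=
    (triv_comp_iff _ _).2 ((triv_congr (BC.proj_fst D b.f b.sq T)).2 h)
  obtain ⟨l, ψ, hl⟩ := exists_triv_stage (BC.isLimitCone D b.f b.sq hc) T M'
    (PicClLib.isInvertible_pullback _ hM) h'
  exact ⟨l.left, l.hom, (triv_congr (BC.map_fst D b.f ψ)).1 ((triv_comp_iff _ _).1 hl)⟩

include hc hA hx hy in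
/-- The data at a stage. -/
theorem exists_data [IsProper pX] [IsProper pY] [Flat pX] [Flat pY] [LocallyOfFinitePresentation pX]
    [LocallyOfFinitePresentation pY] (L : (pullback pX pY).Modules) (hL : PicF.IsInvertible L)
    (h₁ : Triv ((Scheme.Modules.pullback (slice₁ pX pY x hx)).obj L))
    (h₂ : Triv ((Scheme.Modules.pullback (slice₂ pX pY y hy)).obj L)) :
    ∃ (i : I) (a : Stg D c pX x i) (b : Stg D c pY y i) (M : (pullback a.f b.f).Modules), PicF.IsInvertible M ∧
      Nonempty ((Scheme.Modules.pullback (qP a b)).obj M ≅ L) ∧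
      Triv ((Scheme.Modules.pullback (slice₁ a.f b.f a.xi a.sect_comp)).obj M) ∧
      Triv ((Scheme.Modules.pullback (slice₂ a.f b.f b.xi b.sect_comp)).obj M) := by
  obtain ⟨i₁, ⟨a₁⟩⟩ := exists_stg hc hA pX x hx
  obtain ⟨i₂, ⟨b₂⟩⟩ := exists_stg hc hA pY y hy
  let a₀ := a₁.push hx (IsCofiltered.minToLeft i₁ i₂)
  let b₀ := b₂.push hy (IsCofiltered.minToRight i₁ i₂)
  obtain ⟨i, φ, M, hM, ⟨eM⟩⟩ := exists_mod_stage hc hA hx hy a₀ b₀ L hL
  let a := a₀.push hx φ
  let b := b₀.push hy φ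
  have s₁ : Triv ((Scheme.Modules.pullback (slice₁ a.f b.f a.xi a.sect_comp)).obj M) →
      ∀ {j} (ψ : j ⟶ i), Triv ((Scheme.Modules.pullback (slice₁ (a.push hx ψ).f (b.push hy ψ).f (a.push hx ψ).xi
        (a.push hx ψ).sect_comp)).obj ((Scheme.Modules.pullback (prodMap a.f b.f (D.map ψ))).obj M)) :=
    fun h {j} ψ => (triv_comp_iff _ _).2
      (SeesawGlobal.triv_of_factor (pullback.fst b.f (D.map ψ))
        (slice₁_prodMap a.f b.f (D.map ψ) a.xi a.sect_comp).symm h)
  have up₁ : Triv ((Scheme.Modules.pullback b.q).obj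
      ((Scheme.Modules.pullback (slice₁ a.f b.f a.xi a.sect_comp)).obj M)) :=
    (triv_comp_iff _ _).2 ((triv_congr (slice₁_qP a b hx)).1
      ((triv_comp_iff _ _).1 (Triv.of_iso ((Scheme.Modules.pullback _).mapIso eM.symm) h₁)))
  have up₂ : Triv ((Scheme.Modules.pullback a.q).obj
      ((Scheme.Modules.pullback (slice₂ a.f b.f b.xi b.sect_comp)).obj M)) :=
    (triv_comp_iff _ _).2 ((triv_congr (slice₂_qP a b hy)).1
      ((triv_comp_iff _ _).1 (Triv.of_iso ((Scheme.Modules.pullback _).mapIso eM.symm) h₂)))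
  obtain ⟨j₁, ψ₁, t₁⟩ := exists_triv_slice hc hA b _ (PicClLib.isInvertible_pullback _ hM) up₁
  obtain ⟨j₂, ψ₂, t₂⟩ := exists_triv_slice hc hA a _ (PicClLib.isInvertible_pullback _ hM) up₂
  obtain ⟨k, φ₁, φ₂, -⟩ := IsCofilteredOrEmpty.cone_objs (Over.mk ψ₁) (Over.mk ψ₂)
  let ψ : k.left ⟶ i := k.hom
  have key : ∀ {Z : Scheme.{u}} (f : Z ⟶ D.obj i) {j : I} (ψ' : j ⟶ i) (χ : k.left ⟶ j), χ ≫ ψ' = ψ →
      ∀ N : Z.Modules, Triv ((Scheme.Modules.pullback (pullback.fst f (D.map ψ'))).obj N) →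
        Triv ((Scheme.Modules.pullback (pullback.fst f (D.map ψ))).obj N) := fun f j ψ' χ hχ N h =>
    SeesawGlobal.triv_pullback_of_factor (D.map χ) (by rw [← D.map_comp, hχ]) h
  refine ⟨k.left, a.push hx ψ, b.push hy ψ, (Scheme.Modules.pullback (prodMap a.f b.f (D.map ψ))).obj M,
    PicClLib.isInvertible_pullback _ hM,
    ⟨(Scheme.Modules.pullbackComp _ _).app M ≪≫ (Scheme.Modules.pullbackCongr (qP_push a b hx hy ψ)).app M ≪≫ eM⟩,
    ?_, ?_⟩
  · exact (triv_comp_iff _ _).2 ((triv_congr (slice₁_prodMap a.f b.f (D.map ψ) a.xi a.sect_comp)).2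
      ((triv_comp_iff _ _).1 (key b.f ψ₁ φ₁.left (Over.w φ₁) _ t₁)))
  · exact (triv_comp_iff _ _).2 ((triv_congr (slice₂_prodMap a.f b.f (D.map ψ) b.xi b.sect_comp)).2
      ((triv_comp_iff _ _).1 (key a.f ψ₂ φ₂.left (Over.w φ₂) _ t₂)))

include hc hA hx hy in
/-- Near every point of the base: a frame of the module, and constant functions. -/
theorem exists_local [IsProper pX] [IsProper pY] [Flat pX] [Flat pY] [LocallyOfFinitePresentation pX]
    [LocallyOfFinitePresentation pY] (hN : ∀ i, IsNoetherian (D.obj i))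
    (L : (pullback pX pY).Modules) (hL : PicF.IsInvertible L)
    (h₁ : Triv ((Scheme.Modules.pullback (slice₁ pX pY x hx)).obj L))
    (h₂ : Triv ((Scheme.Modules.pullback (slice₂ pX pY y hy)).obj L))
    (s : c.pt) (hX0 : SeesawGlobal.FieldH0 pX s) (hY0 : SeesawGlobal.FieldH0 pY s)
    (hT : SeesawGlobal.FieldTriv (prodHom pX pY) L s) :
    ∃ V : c.pt.Opens, s ∈ V ∧ (∃ e : Γ(L, prodHom pX pY ⁻¹ᵁ V), IsFrame e) ∧
      ∀ W : c.pt.Opens, IsAffineOpen W → W ≤ V → Function.Bijective ((prodHom pX pY).app W) := by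
  obtain ⟨i, a, b, M, hM, ⟨eM⟩, t₁, t₂⟩ := exists_data hc hA hx hy L hL h₁ h₂
  haveI := hN i
  let π := c.π.app i
  let K := c.pt.residueField s
  let ks := c.pt.fromSpecResidueField s
  have hks : ks (IsLocalRing.closedPoint K) = s := Scheme.fromSpecResidueField_apply _ _
  let k : Spec (CommRingCat.of K) ⟶ D.obj i := ks ≫ π
  have hk : k (IsLocalRing.closedPoint K) = π s := congrArg π hks
  have hH : ∀ {Z Zi : Scheme.{u}} {pZ : Z ⟶ c.pt} {fZ : Zi ⟶ D.obj i} {q : Z ⟶ Zi}
      (sq : IsPullback q pZ fZ π), SeesawGlobal.FieldH0 pZ s →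
        Function.Bijective (pullback.snd fZ k).appTop := by
    intro Z Zi pZ fZ q sq hZ
    have h := (IsPullback.of_hasPullback pZ ks).paste_horiz sq
    rw [← h.isoPullback_inv_snd, Scheme.Hom.comp_appTop]
    exact (SeesawGlobal.bijective_appTop_iso h.isoPullback.symm).comp (hZ K ks hks)
  have hXi : SeesawGlobal.FieldH0 a.f (π s) := fieldH0_of_point a.f K k hk (hH a.sq hX0)
  have hYi : SeesawGlobal.FieldH0 b.f (π s) := fieldH0_of_point b.f K k hk (hH b.sq hY0)
  let πi := prodHom a.f b.f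
  haveI : IsProper πi := inferInstanceAs (IsProper (pullback.fst a.f b.f ≫ a.f))
  haveI : Flat πi := inferInstanceAs (Flat (pullback.fst a.f b.f ≫ a.f))
  have hsq := isPullback_qP a b
  have hPi : SeesawGlobal.FieldH0 πi (π s) := fieldH0_prod a.f b.f hXi hYi
  have hpaste := (IsPullback.of_hasPullback (prodHom pX pY) ks).paste_horiz hsq
  have hTi : SeesawGlobal.FieldTriv πi M (π s) := by
    refine fieldTriv_of_point' πi K k hk hM (hPi K k hk) ?_
    refine SeesawGlobal.triv_of_factor hpaste.isoPullback.inv hpaste.isoPullback_inv_fst ?_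
    exact (triv_comp_iff _ _).1 (Triv.of_iso ((Scheme.Modules.pullback _).mapIso eM.symm) (hT K ks hks))
  obtain ⟨V₁, hs₁, e, he⟩ := exists_frame_near a.f b.f a.xi a.sect_comp b.xi b.sect_comp M hM t₁ t₂ (π s) hXi hYi hTi
  obtain ⟨V₂, hs₂, hV₂⟩ := PicFRel.UnivH0.exists_nhd πi (π s)
    (hPi _ _ (Scheme.fromSpecResidueField_apply _ _))
  refine ⟨π ⁻¹ᵁ (V₁ ⊓ V₂), ⟨hs₁, hs₂⟩, ?_, fun W hW hWV => ?_⟩
  · have hle : prodHom pX pY ⁻¹ᵁ (π ⁻¹ᵁ (V₁ ⊓ V₂)) ≤ qP a b ⁻¹ᵁ (πi ⁻¹ᵁ V₁) := by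
      intro z hz
      show πi (qP a b z) ∈ V₁
      rw [← Scheme.Hom.comp_apply, hsq.w]
      exact hz.1
    exact ⟨_, ((isFrame_pullElt (qP a b) he).res hle).map_iso eM⟩
  · have h := hV₂ c.pt π W hW fun t ht => (hWV ht).2
    rw [← hsq.isoPullback_hom_snd, Scheme.Hom.comp_app]
    exact (ConcreteCategory.bijective_of_isIso (hsq.isoPullback.hom.app _)).comp h

end Groth.Agent.AbSchX.CubeBase
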