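import Groth.Agent.AbSchX.CubeBase.SmallStep
import Groth.Agent.H23.InfArtin
import Groth.Agent.ArtFunLib.HilbAffine
import Groth.Agent.S11468

/-! An invertible module on a product of two flat proper schemes over an Artinian local ring which is
trivial on both slices and on the closed fibre is trivial. -/

set_option autoImplicit false
set_option linter.style.haveILetI false
universe u

open CategoryTheory Limits AlgebraicGeometry MonoidalCategory CartesianMonoidalCategory TopologicalSpace Opposite

namespace Groth.Agent.AbSchX.CubeBase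

open Groth.Agent.AModX Groth.Agent.InvX Groth.Agent.H23 Groth.Agent.H23.TrivBasic Groth.Agent.H23.KunnethH1

/-- Global functions of all field-valued fibres are constants. -/
def ConstFib {X S : Scheme.{u}} (p : X ⟶ S) : Prop :=
  ∀ (K : Type u) [Field K] (k : Spec (CommRingCat.of K) ⟶ S), Function.Bijective (pullback.snd p k).appTop

theorem ConstFib.baseChange {X S T : Scheme.{u}} {p : X ⟶ S} (h : ConstFib p) (g : T ⟶ S) :
    ConstFib (pullback.snd p g) := by
  intro K _ k
  rw [← pullbackLeftPullbackSndIso_hom_snd p g k, Scheme.Hom.comp_appTop]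
  exact (SeesawGlobal.bijective_appTop_iso (pullbackLeftPullbackSndIso p g k)).comp (h K (k ≫ g))

section Prod

variable {S T X Y : Scheme.{u}} (pX : X ⟶ S) (pY : Y ⟶ S) (q : T ⟶ S)

/-- The structure map of the product. -/
noncomputable abbrev prodHom : pullback pX pY ⟶ S := pullback.fst pX pY ≫ pX

/-- The base change map of the product. -/
noncomputable def prodMap : pullback (pullback.snd pX q) (pullback.snd pY q) ⟶ pullback pX pY :=
  pullback.map _ _ _ _ (pullback.fst pX q) (pullback.fst pY q) q pullback.condition.symm pullback.condition.symm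

theorem prodMap_fst : prodMap pX pY q ≫ pullback.fst pX pY = pullback.fst _ _ ≫ pullback.fst pX q :=
  pullback.lift_fst _ _ _

theorem prodMap_snd : prodMap pX pY q ≫ pullback.snd pX pY = pullback.snd _ _ ≫ pullback.fst pY q :=
  pullback.lift_snd _ _ _

theorem isPullback_prodMap : IsPullback (prodMap pX pY q)
    (prodHom (pullback.snd pX q) (pullback.snd pY q)) (prodHom pX pY) q := by
  have hw : prodMap pX pY q ≫ prodHom pX pY = prodHom (pullback.snd pX q) (pullback.snd pY q) ≫ q := by
    rw [prodHom, prodHom, ← Category.assoc, prodMap_fst, Category.assoc, pullback.condition, Category.assoc]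
  refine IsPullback.of_isLimit' ⟨hw⟩ (PullbackCone.isLimitAux _ (fun s => pullback.lift
    (pullback.lift (s.fst ≫ pullback.fst pX pY) s.snd (by rw [Category.assoc]; exact s.condition))
    (pullback.lift (s.fst ≫ pullback.snd pX pY) s.snd (by
      rw [Category.assoc, ← pullback.condition]; exact s.condition))
    (by rw [pullback.lift_snd, pullback.lift_snd])) (fun s => ?_) (fun s => ?_) fun s (m : s.pt ⟶ pullback (pullback.snd pX q) (pullback.snd pY q)) hm => ?_)
  · show _ ≫ prodMap pX pY q = _
    apply pullback.hom_ext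
    · rw [Category.assoc, prodMap_fst, pullback.lift_fst_assoc, pullback.lift_fst]
    · rw [Category.assoc, prodMap_snd, pullback.lift_snd_assoc, pullback.lift_fst]
  · show _ ≫ pullback.fst _ _ ≫ _ = _
    rw [pullback.lift_fst_assoc, pullback.lift_snd]
  · have h1 : m ≫ prodMap pX pY q = s.fst := hm WalkingCospan.left
    have h2 : m ≫ prodHom (pullback.snd pX q) (pullback.snd pY q) = s.snd := hm WalkingCospan.right
    refine pullback.hom_ext (f := pullback.snd pX q) (g := pullback.snd pY q) ?_ ?_ <;> [rw [pullback.lift_fst]; rw [pullback.lift_snd]]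
    · apply pullback.hom_ext
      · rw [pullback.lift_fst, ← h1, Category.assoc, Category.assoc, prodMap_fst]
      · rw [pullback.lift_snd, ← h2, Category.assoc]
    · apply pullback.hom_ext
      · rw [pullback.lift_fst, ← h1, Category.assoc, Category.assoc, prodMap_snd]
      · rw [pullback.lift_snd, ← h2, Category.assoc]
        show _ = m ≫ pullback.fst _ _ ≫ pullback.snd pX q
        rw [pullback.condition]

variable (x : S ⟶ X) (hx : x ≫ pX = 𝟙 S) (y : S ⟶ Y) (hy : y ≫ pY = 𝟙 S)

/-- The slice along a section of the first factor. -/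
noncomputable def slice₁ : Y ⟶ pullback pX pY :=
  pullback.lift (pY ≫ x) (𝟙 Y) (by rw [Category.assoc, hx, Category.comp_id, Category.id_comp])

/-- The slice along a section of the second factor. -/
noncomputable def slice₂ : X ⟶ pullback pX pY :=
  pullback.lift (𝟙 X) (pX ≫ y) (by rw [Category.assoc, hy, Category.comp_id, Category.id_comp])

/-- The base change of a section. -/
noncomputable def sect : T ⟶ pullback pX q :=
  pullback.lift (q ≫ x) (𝟙 T) (by rw [Category.assoc, hx, Category.comp_id, Category.id_comp])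

theorem sect_snd : sect pX q x hx ≫ pullback.snd pX q = 𝟙 T := pullback.lift_snd _ _ _

theorem slice₁_prodMap :
    slice₁ (pullback.snd pX q) (pullback.snd pY q) (sect pX q x hx) (sect_snd pX q x hx) ≫ prodMap pX pY q =
      pullback.fst pY q ≫ slice₁ pX pY x hx := by
  apply pullback.hom_ext
  · rw [Category.assoc, prodMap_fst, slice₁, slice₁, pullback.lift_fst_assoc, Category.assoc, Category.assoc,
      pullback.lift_fst, sect, pullback.lift_fst, pullback.condition_assoc]
  · rw [Category.assoc, prodMap_snd, slice₁, slice₁, pullback.lift_snd_assoc, Category.id_comp, Category.assoc,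
      pullback.lift_snd, Category.comp_id]

theorem slice₂_prodMap :
    slice₂ (pullback.snd pX q) (pullback.snd pY q) (sect pY q y hy) (sect_snd pY q y hy) ≫ prodMap pX pY q =
      pullback.fst pX q ≫ slice₂ pX pY y hy := by
  apply pullback.hom_ext
  · rw [Category.assoc, prodMap_fst, slice₂, slice₂, pullback.lift_fst_assoc, Category.id_comp, Category.assoc,
      pullback.lift_fst, Category.comp_id]
  · rw [Category.assoc, prodMap_snd, slice₂, slice₂, pullback.lift_snd_assoc, Category.assoc, Category.assoc,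
      pullback.lift_snd, sect, pullback.lift_fst, pullback.condition_assoc]

theorem isClosedImmersion_slice₁ [IsSeparated pX] : IsClosedImmersion (slice₁ pX pY x hx) := by
  haveI : IsIso (slice₁ pX pY x hx ≫ pullback.snd pX pY) := by
    rw [slice₁, pullback.lift_snd]; infer_instance
  exact IsClosedImmersion.of_comp _ (pullback.snd pX pY)

theorem isClosedImmersion_slice₂ [IsSeparated pY] : IsClosedImmersion (slice₂ pX pY y hy) := by
  haveI : IsIso (slice₂ pX pY y hy ≫ pullback.fst pX pY) := by
    rw [slice₂, pullback.lift_fst]; infer_instance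
  exact IsClosedImmersion.of_comp _ (pullback.fst pX pY)

end Prod

section SmallRing

variable {B : Type u} [CommRing B]

/-- The function attached to a scalar. -/
noncomputable def scal {P : Scheme.{u}} (f : P ⟶ Spec (CommRingCat.of B)) (U : P.Opens) : B →+* Γ(P, U) :=
  (f.appLE ⊤ U le_top).hom.comp (Scheme.ΓSpecIso (CommRingCat.of B)).inv.hom

theorem scal_eq_resR {P : Scheme.{u}} (f : P ⟶ Spec (CommRingCat.of B)) (U : P.Opens) (b : B) :
    scal f U b = resR le_top (f.appTop ((Scheme.ΓSpecIso (CommRingCat.of B)).inv b)) := rfl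

theorem small_of_isPullback {P P₀ P' : Scheme.{u}} (f : P ⟶ Spec (CommRingCat.of B)) [Flat f] (ε : B)
    (hε : ε * ε = 0) {K C : Type u} [CommRing K] [CommRing C] (qK : B →+* K) (qC : B →+* C)
    (hqK : Function.Surjective qK) (hqC : Function.Surjective qC)
    (hkK : ∀ b, ε * b = 0 ↔ qK b = 0) (hkC : RingHom.ker qC = Ideal.span {ε})
    (i : P₀ ⟶ P) (f₀ : P₀ ⟶ Spec (CommRingCat.of K))
    (hi : IsPullback i f₀ f (Spec.map (CommRingCat.ofHom qK)))
    (j : P' ⟶ P) (f' : P' ⟶ Spec (CommRingCat.of C))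
    (hj : IsPullback j f' f (Spec.map (CommRingCat.ofHom qC))) :
    Small (f.appTop ((Scheme.ΓSpecIso (CommRingCat.of B)).inv ε)) i j := by
  have hker : ∀ {Q : Scheme.{u}} {D : Type u} [CommRing D] (q : B →+* D) (g : Q ⟶ P)
      (h : Q ⟶ Spec (CommRingCat.of D)), Function.Surjective q →
      IsPullback g h f (Spec.map (CommRingCat.ofHom q)) → ∀ (U : P.Opens), IsAffineOpen U →
      RingHom.ker (g.app U).hom = (RingHom.ker q).map (scal f U) := by
    intro Q D _ q g h hq hsq U hU
    have h1 := (ArtFunLib.HilbAffine.ker_appLE_of_isPullback (φ := CommRingCat.ofHom q) hq hsq ⟨U, hU⟩ _ rfl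
      le_rfl).2
    rw [← Scheme.Hom.app_eq_appLE] at h1
    exact h1
  refine ⟨fun U hU x => ?_, fun U hU x => ?_, by rw [← map_mul, ← map_mul, hε, map_zero, map_zero]⟩
  · rw [← scal_eq_resR, ← RingHom.mem_ker, hker qC j f' hqC hj U hU, hkC, Ideal.map_span, Set.image_singleton,
      Ideal.mem_span_singleton]
    rfl
  · rw [← scal_eq_resR, ← RingHom.mem_ker (f := (i.app U).hom), hker qK i f₀ hqK hi U hU]
    letI : Algebra B Γ(P, U) := (scal f U).toAlgebra
    have hfl : (f.appLE ⊤ U le_top).hom.Flat :=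
      HasRingHomProperty.appLE @Flat f inferInstance ⟨⊤, isAffineOpen_top _⟩ ⟨U, hU⟩ le_top
    haveI : Module.Flat B Γ(P, U) :=
      RingHom.Flat.comp (RingHom.Flat.of_bijective
        (ConcreteCategory.bijective_of_isIso (Scheme.ΓSpecIso (CommRingCat.of B)).inv)) hfl
    let m : Submodule B B := RingHom.ker qK
    constructor
    · intro hx
      have hex : Function.Exact m.subtype (LinearMap.mulLeft B ε) := fun b => by
        rw [LinearMap.mulLeft_apply, hkK]
        exact ⟨fun h => ⟨⟨b, h⟩, rfl⟩, fun ⟨⟨c, hc⟩, e⟩ => e ▸ hc⟩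
      have h0 : (LinearMap.mulLeft B ε).lTensor Γ(P, U) (x ⊗ₜ[B] (1 : B)) = 0 := by
        rw [LinearMap.lTensor_tmul, LinearMap.mulLeft_apply, mul_one]
        apply (TensorProduct.rid B Γ(P, U)).injective
        rw [TensorProduct.rid_tmul, map_zero, Algebra.smul_def]
        exact hx
      obtain ⟨z, hz⟩ := (Module.Flat.lTensor_exact (R := B) Γ(P, U) hex _).1 h0
      have hx' : x = TensorProduct.rid B Γ(P, U) (m.subtype.lTensor _ z) := by
        rw [hz, TensorProduct.rid_tmul, one_smul]
      rw [hx']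
      clear hz hx'
      induction z using TensorProduct.induction_on with
      | zero => simp
      | add a b ha hb => rw [map_add, map_add]; exact add_mem ha hb
      | tmul a b =>
        rw [LinearMap.lTensor_tmul, TensorProduct.rid_tmul, Algebra.smul_def]
        exact Ideal.mul_mem_right _ _ (Ideal.mem_map_of_mem (scal f U) b.2)
    · intro hx
      have hle : (RingHom.ker qK).map (scal f U) ≤ Submodule.colon (⊥ : Ideal Γ(P, U)) {scal f U ε} :=
        Ideal.map_le_iff_le_comap.2 fun b hb => by
          rw [Ideal.mem_comap, Submodule.mem_colon_singleton, Submodule.mem_bot, smul_eq_mul, mul_comm, ← map_mul,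
            (hkK b).2 hb, map_zero]
      have h1 := Submodule.mem_colon_singleton.1 (hle hx)
      rwa [Submodule.mem_bot, smul_eq_mul, mul_comm] at h1

end SmallRing


section Main

variable {B : Type u} [CommRing B]

theorem surjective_specMap {C : Type u} [CommRing C] (q : B →+* C) (hq : Function.Surjective q)
    (hnil : ∀ b, q b = 0 → IsNilpotent b) : Surjective (Spec.map (CommRingCat.ofHom q)) := by
  refine ⟨fun p => ?_⟩
  have hp : p ∈ PrimeSpectrum.zeroLocus (RingHom.ker q : Set B) :=
    fun b hb => nilpotent_iff_mem_prime.1 (hnil b hb) p.asIdeal p.isPrime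
  rw [← range_comap_of_surjective _ q hq] at hp
  exact hp

theorem scal_bijective [IsLocalRing B] [IsArtinianRing B] {X : Scheme.{u}} (p : X ⟶ Spec (CommRingCat.of B))
    [Flat p] (h : ConstFib p) :
    Function.Bijective ((Scheme.ΓSpecIso (CommRingCat.of B)).inv ≫ p.appTop) := by
  letI := Ideal.Quotient.field (IsLocalRing.maximalIdeal B)
  exact S11468.result B X _ p _ _ (IsPullback.of_hasPullback p _)
    ((h (B ⧸ IsLocalRing.maximalIdeal B) _).comp
      (ConcreteCategory.bijective_of_isIso (Scheme.ΓSpecIso (CommRingCat.of (B ⧸ IsLocalRing.maximalIdeal B))).inv))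

/-- The small step for a product. -/
theorem triv_prod_step [IsLocalRing B] [IsArtinianRing B] {X Y : Scheme.{u}}
    (pX : X ⟶ Spec (CommRingCat.of B)) (pY : Y ⟶ Spec (CommRingCat.of B)) [IsProper pX] [IsProper pY]
    [Flat pX] [Flat pY] (hX : ConstFib pX) (hY : ConstFib pY)
    (x : Spec (CommRingCat.of B) ⟶ X) (hx : x ≫ pX = 𝟙 _) (y : Spec (CommRingCat.of B) ⟶ Y) (hy : y ≫ pY = 𝟙 _)
    (ε : B) (hε₁ : ε ∈ IsLocalRing.maximalIdeal B) (hann : ∀ b, ε * b = 0 ↔ b ∈ IsLocalRing.maximalIdeal B)
    (L : (pullback pX pY).Modules) (hL : PicF.IsInvertible L)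
    (h' : Triv ((Scheme.Modules.pullback
      (prodMap pX pY (Spec.map (CommRingCat.ofHom (Ideal.Quotient.mk (Ideal.span {ε})))))).obj L))
    (h₁ : Triv ((Scheme.Modules.pullback (slice₁ pX pY x hx)).obj L))
    (h₂ : Triv ((Scheme.Modules.pullback (slice₂ pX pY y hy)).obj L)) : Triv L := by
  classical
  let m := IsLocalRing.maximalIdeal B
  letI := Ideal.Quotient.field m
  let k := B ⧸ m
  let C := B ⧸ Ideal.span {ε}
  have hεε : ε * ε = 0 := (hann ε).2 hε₁
  let qk := Spec.map (CommRingCat.ofHom (Ideal.Quotient.mk m))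
  let qC := Spec.map (CommRingCat.ofHom (Ideal.Quotient.mk (Ideal.span {ε})))
  haveI : IsClosedImmersion qk := IsClosedImmersion.spec_of_surjective _ Ideal.Quotient.mk_surjective
  haveI : IsClosedImmersion qC := IsClosedImmersion.spec_of_surjective _ Ideal.Quotient.mk_surjective
  haveI : Surjective qC := surjective_specMap _ Ideal.Quotient.mk_surjective fun b hb => by
    obtain ⟨c, rfl⟩ := Ideal.mem_span_singleton.1 (Ideal.Quotient.eq_zero_iff_mem.1 hb)
    exact ⟨2, by rw [mul_pow, pow_two, hεε, zero_mul]⟩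
  haveI : Nontrivial C := Ideal.Quotient.nontrivial_iff.2 fun h =>
    (IsLocalRing.maximalIdeal.isMaximal B).ne_top
      (top_le_iff.1 (h.ge.trans ((Ideal.span_singleton_le_iff_mem _).2 hε₁)))
  haveI : IsLocalRing C := IsLocalRing.of_surjective' (Ideal.Quotient.mk _) Ideal.Quotient.mk_surjective
  haveI : IsArtinianRing C := inferInstanceAs (IsArtinianRing (B ⧸ Ideal.span {ε}))
  haveI : Flat (prodHom pX pY) := inferInstanceAs (Flat (pullback.fst pX pY ≫ pX))
  haveI : IsProper (prodHom pX pY) := inferInstanceAs (IsProper (pullback.fst pX pY ≫ pX))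
  haveI hPsep : (pullback pX pY).IsSeparated :=
    ⟨by rw [← Limits.terminal.comp_from (prodHom pX pY)]; infer_instance⟩
  haveI : X.IsSeparated := ⟨by rw [← Limits.terminal.comp_from pX]; infer_instance⟩
  haveI : Y.IsSeparated := ⟨by rw [← Limits.terminal.comp_from pY]; infer_instance⟩
  haveI : CompactSpace X := QuasiCompact.compactSpace_of_compactSpace pX
  haveI : CompactSpace Y := QuasiCompact.compactSpace_of_compactSpace pY
  obtain ⟨ι, _, U, hU, hUσ⟩ := QCoh.exists_affine_cover (X := X)
  obtain ⟨κ, _, O, hO, hOσ⟩ := QCoh.exists_affine_cover (X := Y)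
  have hU1 : ∀ i, IsAffineOpen (U i) := fun i => by simpa using hUσ (p := 0) fun _ => i
  have hO1 : ∀ j, IsAffineOpen (O j) := fun j => by simpa using hOσ (p := 0) fun _ => j
  have hcU : ∀ z : X, ∃ i, z ∈ U i := fun z => by
    have : z ∈ ⨆ i, U i := hU.symm ▸ trivial
    exact Opens.mem_iSup.1 this
  have hcO : ∀ z : Y, ∃ j, z ∈ O j := fun z => by
    have : z ∈ ⨆ j, O j := hO.symm ▸ trivial
    exact Opens.mem_iSup.1 this
  let Bc : ι × κ → (pullback pX pY).Opens :=
    fun a => pullback.fst pX pY ⁻¹ᵁ U a.1 ⊓ pullback.snd pX pY ⁻¹ᵁ O a.2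
  -- the fibre
  let X₀ : Over (Spec (CommRingCat.of k)) := Over.mk (pullback.snd pX qk)
  let Y₀ : Over (Spec (CommRingCat.of k)) := Over.mk (pullback.snd pY qk)
  haveI : IsProper X₀.hom := inferInstanceAs (IsProper (pullback.snd pX qk))
  haveI : IsProper Y₀.hom := inferInstanceAs (IsProper (pullback.snd pY qk))
  let v₀ : 𝟙_ (Over (Spec (CommRingCat.of k))) ⟶ X₀ := Over.homMk (sect pX qk x hx) (sect_snd pX qk x hx)
  let w₀ : 𝟙_ (Over (Spec (CommRingCat.of k))) ⟶ Y₀ := Over.homMk (sect pY qk y hy) (sect_snd pY qk y hy)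
  let i : (X₀ ⊗ Y₀).left ⟶ pullback pX pY := prodMap pX pY qk
  have hi : IsPullback i (prodHom (pullback.snd pX qk) (pullback.snd pY qk)) (prodHom pX pY) qk :=
    isPullback_prodMap pX pY qk
  haveI : IsClosedImmersion i := MorphismProperty.of_isPullback (P := @IsClosedImmersion) hi.flip inferInstance
  let j := prodMap pX pY qC
  haveI : IsClosedImmersion j := MorphismProperty.of_isPullback (P := @IsClosedImmersion)
    (isPullback_prodMap pX pY qC).flip inferInstance
  haveI : Surjective j := MorphismProperty.of_isPullback (P := @Surjective)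
    (isPullback_prodMap pX pY qC).flip inferInstance
  let εΓ := (Scheme.ΓSpecIso (CommRingCat.of B)).inv ε
  have hkK : ∀ b, ε * b = 0 ↔ Ideal.Quotient.mk m b = 0 := fun b => by
    rw [Ideal.Quotient.eq_zero_iff_mem]
    exact hann b
  have hsm : ∀ {Z : Scheme.{u}} (f : Z ⟶ Spec (CommRingCat.of B)) [Flat f] {Z₀ Z' : Scheme.{u}} (a : Z₀ ⟶ Z)
      (a₀ : Z₀ ⟶ Spec (CommRingCat.of k)) (_ : IsPullback a a₀ f qk) (b : Z' ⟶ Z)
      (b₀ : Z' ⟶ Spec (CommRingCat.of C)) (_ : IsPullback b b₀ f qC), Small (f.appTop εΓ) a b :=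
    fun f _ _ _ a a₀ ha b b₀ hb => small_of_isPullback f ε hεε (Ideal.Quotient.mk m)
      (Ideal.Quotient.mk (Ideal.span {ε})) Ideal.Quotient.mk_surjective Ideal.Quotient.mk_surjective hkK
      Ideal.mk_ker a a₀ ha b b₀ hb
  let Sl : Bool → Scheme.{u} := fun b => match b with
    | true => Y
    | false => X
  let σ : ∀ b, Sl b ⟶ pullback pX pY := fun b => match b with
    | true => slice₁ pX pY x hx
    | false => slice₂ pX pY y hy
  let Sl₀ : Bool → Scheme.{u} := fun b => match b with
    | true => Y₀.left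
    | false => X₀.left
  let σ₀ : ∀ b, Sl₀ b ⟶ (X₀ ⊗ Y₀).left := fun b => match b with
    | true => (lift (toUnit Y₀ ≫ v₀) (𝟙 Y₀)).left
    | false => (lift (𝟙 X₀) (toUnit X₀ ≫ w₀)).left
  let Sl' : Bool → Scheme.{u} := fun b => match b with
    | true => pullback pY qC
    | false => pullback pX qC
  let σ' : ∀ b, Sl' b ⟶ pullback (pullback.snd pX qC) (pullback.snd pY qC) := fun b => match b with
    | true => slice₁ _ _ (sect pX qC x hx) (sect_snd pX qC x hx)
    | false => slice₂ _ _ (sect pY qC y hy) (sect_snd pY qC y hy)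
  let is : ∀ b, Sl₀ b ⟶ Sl b := fun b => match b with
    | true => pullback.fst pY qk
    | false => pullback.fst pX qk
  let js : ∀ b, Sl' b ⟶ Sl b := fun b => match b with
    | true => pullback.fst pY qC
    | false => pullback.fst pX qC
  have hσ₀t : σ₀ true = slice₁ (pullback.snd pX qk) (pullback.snd pY qk) (sect pX qk x hx) (sect_snd pX qk x hx) := rfl
  have hσ₀f : σ₀ false = slice₂ (pullback.snd pX qk) (pullback.snd pY qk) (sect pY qk y hy) (sect_snd pY qk y hy) := rfl
  haveI : ∀ b, IsClosedImmersion (σ b) := by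
    rintro (_ | _)
    · exact isClosedImmersion_slice₂ pX pY y hy
    · exact isClosedImmersion_slice₁ pX pY x hx
  haveI : ∀ b, Surjective (js b) := by
    rintro (_ | _)
    · exact MorphismProperty.of_isPullback (P := @Surjective) (IsPullback.of_hasPullback pX qC).flip inferInstance
    · exact MorphismProperty.of_isPullback (P := @Surjective) (IsPullback.of_hasPullback pY qC).flip inferInstance
  have hHk : ∀ (F : ι × κ → (X₀ ⊗ Y₀).left.Opens),
      F = KunnethH1.boxes (fun a => pullback.fst pX qk ⁻¹ᵁ U a) (fun a => pullback.fst pY qk ⁻¹ᵁ O a) →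
      ∀ c : ∀ a b, Γ((X₀ ⊗ Y₀).left, F a ⊓ F b), IsCocycle F c →
        (∀ s, IsCobound (fun a => σ₀ s ⁻¹ᵁ F a) (pullC F (σ₀ s) c)) → IsCobound F c := by
    rintro F rfl c hc hs
    exact KunnethH1.isCobound_of_slices (V := X₀) (W := Y₀) _ _ (fun z => (hcU (pullback.fst pX qk z)).imp fun a ha => ha)
      (fun z => (hcO (pullback.fst pY qk z)).imp fun a ha => ha) (fun a => (hU1 a).preimage _)
      (fun a => (hO1 a).preimage _) (hX k qk) (hY k qk) v₀ w₀ c hc (hs true) (hs false)
  refine triv_step ((prodHom pX pY).appTop εΓ) i j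
    (hsm (prodHom pX pY) i _ hi j _ (isPullback_prodMap pX pY qC)) Bc (fun a => ?_) (fun z => ?_)
    Sl Sl₀ Sl' σ σ₀ σ' is js ?_ ?_ ?_ ?_ (hHk _ ?_) L hL h' ?_
  · exact Groth.Agent.S17858.isAffineOpen_inf_pullback pX pY (hU1 a.1) (hO1 a.2)
      (isAffineOpen_top (Spec (CommRingCat.of B))) le_top le_top
  · obtain ⟨a, ha⟩ := hcU (pullback.fst pX pY z)
    obtain ⟨b, hb⟩ := hcO (pullback.snd pX pY z)
    exact ⟨(a, b), ha, hb⟩
  · rintro (_ | _)
    · rw [hσ₀f]; exact slice₂_prodMap pX pY qk y hy
    · rw [hσ₀t]; exact slice₁_prodMap pX pY qk x hx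
  · rintro (_ | _)
    · exact slice₂_prodMap pX pY qC y hy
    · exact slice₁_prodMap pX pY qC x hx
  · rintro (_ | _)
    · show Small ((slice₂ pX pY y hy).appTop ((prodHom pX pY).appTop εΓ)) _ _
      rw [← CommRingCat.comp_apply, ← Scheme.Hom.comp_appTop, prodHom, slice₂, pullback.lift_fst_assoc, Category.id_comp]
      exact hsm pX _ _ (IsPullback.of_hasPullback pX qk) _ _ (IsPullback.of_hasPullback pX qC)
    · show Small ((slice₁ pX pY x hx).appTop ((prodHom pX pY).appTop εΓ)) _ _
      rw [← CommRingCat.comp_apply, ← Scheme.Hom.comp_appTop, prodHom, slice₁, pullback.lift_fst_assoc,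
        Category.assoc, hx, Category.comp_id]
      exact hsm pY _ _ (IsPullback.of_hasPullback pY qk) _ _ (IsPullback.of_hasPullback pY qC)
  · have key : ∀ {Z : Scheme.{u}} (p : Z ⟶ Spec (CommRingCat.of B)) [Flat p], ConstFib p →
        Function.Surjective (pullback.fst p qC).appTop := by
      intro Z p _ hp z
      obtain ⟨c, rfl⟩ := (scal_bijective (pullback.snd p qC) (hp.baseChange qC)).2 z
      obtain ⟨b, rfl⟩ := Ideal.Quotient.mk_surjective c
      refine ⟨p.appTop ((Scheme.ΓSpecIso (CommRingCat.of B)).inv b), ?_⟩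
      rw [← CommRingCat.comp_apply, ← Scheme.Hom.comp_appTop, pullback.condition, Scheme.Hom.comp_appTop,
        CommRingCat.comp_apply, CommRingCat.comp_apply]
      exact congrArg _ (congr($(Scheme.ΓSpecIso_inv_naturality (CommRingCat.ofHom (Ideal.Quotient.mk (Ideal.span {ε})))) b)).symm
    rintro (_ | _)
    · exact key pX hX
    · exact key pY hY
  · funext a
    show i ⁻¹ᵁ (_ ⊓ _) = _
    rw [Scheme.Hom.preimage_inf, ← Scheme.Hom.comp_preimage, ← Scheme.Hom.comp_preimage]
    show (prodMap pX pY qk ≫ _) ⁻¹ᵁ _ ⊓ (prodMap pX pY qk ≫ _) ⁻¹ᵁ _ = _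
    rw [prodMap_fst, prodMap_snd]
    rfl
  · rintro (_ | _)
    · exact h₂
    · exact h₁

/-- Triviality over an Artinian local ring. -/
theorem triv_artin [IsLocalRing B] [IsArtinianRing B] {X Y : Scheme.{u}}
    (pX : X ⟶ Spec (CommRingCat.of B)) (pY : Y ⟶ Spec (CommRingCat.of B)) [IsProper pX] [IsProper pY]
    [Flat pX] [Flat pY] (hX : ConstFib pX) (hY : ConstFib pY)
    (x : Spec (CommRingCat.of B) ⟶ X) (hx : x ≫ pX = 𝟙 _) (y : Spec (CommRingCat.of B) ⟶ Y) (hy : y ≫ pY = 𝟙 _)
    (L : (pullback pX pY).Modules) (hL : PicF.IsInvertible L)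
    (h₀ : ∀ (K : Type u) [Field K] (k : Spec (CommRingCat.of K) ⟶ Spec (CommRingCat.of B)),
      Triv ((Scheme.Modules.pullback (pullback.fst (prodHom pX pY) k)).obj L))
    (h₁ : Triv ((Scheme.Modules.pullback (slice₁ pX pY x hx)).obj L))
    (h₂ : Triv ((Scheme.Modules.pullback (slice₂ pX pY y hy)).obj L)) : Triv L := by
  classical
  suffices H : ∀ (J : Ideal B) (A : Type u) [CommRing A] [IsLocalRing A] [IsArtinianRing A] (q : B →+* A),
      Function.Surjective q → RingHom.ker q = J → ∀ {X Y : Scheme.{u}}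
      (pX : X ⟶ Spec (CommRingCat.of A)) (pY : Y ⟶ Spec (CommRingCat.of A)) [IsProper pX] [IsProper pY]
      [Flat pX] [Flat pY] (_ : ConstFib pX) (_ : ConstFib pY)
      (x : Spec (CommRingCat.of A) ⟶ X) (hx : x ≫ pX = 𝟙 _) (y : Spec (CommRingCat.of A) ⟶ Y)
      (hy : y ≫ pY = 𝟙 _) (L : (pullback pX pY).Modules), PicF.IsInvertible L →
      (∀ (K : Type u) [Field K] (k : Spec (CommRingCat.of K) ⟶ Spec (CommRingCat.of A)),
        Triv ((Scheme.Modules.pullback (pullback.fst (prodHom pX pY) k)).obj L)) →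
      Triv ((Scheme.Modules.pullback (slice₁ pX pY x hx)).obj L) →
      Triv ((Scheme.Modules.pullback (slice₂ pX pY y hy)).obj L) → Triv L from
    H ⊥ B (RingHom.id B) Function.surjective_id ((RingHom.injective_iff_ker_eq_bot _).1 Function.injective_id)
      pX pY hX hY x hx y hy L hL h₀ h₁ h₂
  intro J
  induction J using WellFoundedGT.induction with
  | ind J ih =>
    intro A _ _ _ q hq hJ X Y pX pY _ _ _ _ hX hY x hx y hy L hL h₀ h₁ h₂
    let m := IsLocalRing.maximalIdeal A
    by_cases hm : m = ⊥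
    · letI := Ideal.Quotient.field m
      let qk := Spec.map (CommRingCat.ofHom (Ideal.Quotient.mk m))
      haveI : IsIso qk := by
        have : Function.Bijective (Ideal.Quotient.mk m) := ⟨(injective_iff_map_eq_zero _).2 fun a ha => by
          rw [Ideal.Quotient.eq_zero_iff_mem, hm] at ha
          exact ha, Ideal.Quotient.mk_surjective⟩
        haveI : IsIso (CommRingCat.ofHom (Ideal.Quotient.mk m)) := (ConcreteCategory.isIso_iff_bijective _).2 this
        infer_instance
      exact TrivBasic.triv_of_isIso (pullback.fst (prodHom pX pY) qk) (h₀ (A ⧸ m) qk)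
    obtain ⟨N, hN⟩ := (isArtinianRing_iff_isNilpotent_maximalIdeal A).1 inferInstance
    have hex : ∃ n, m ^ n = ⊥ := ⟨N, hN⟩
    let n := Nat.find hex
    have hn : m ^ n = ⊥ := Nat.find_spec hex
    have hn2 : 2 ≤ n := by
      by_contra hlt
      interval_cases h : n
      · exact top_ne_bot (α := Ideal A) (by rwa [pow_zero, Ideal.one_eq_top] at hn)
      · exact hm (by rwa [pow_one] at hn)
    have hne : m ^ (n - 1) ≠ ⊥ := Nat.find_min hex (by omega)
    obtain ⟨ε, hεm, hε0⟩ := Submodule.exists_mem_ne_zero_of_ne_bot hne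
    have hε₁ : ε ∈ m := Ideal.pow_le_self (by omega) hεm
    have hann : ∀ b, ε * b = 0 ↔ b ∈ m := fun b => by
      refine ⟨fun h => ?_, fun hb => ?_⟩
      · by_contra hb
        exact hε0 ((IsLocalRing.notMem_maximalIdeal.1 hb).mul_left_eq_zero.1 h)
      · have h1 := Ideal.mul_mem_mul hεm hb
        rw [← pow_succ, show n - 1 + 1 = n by omega, hn] at h1
        exact h1
    let qC := Spec.map (CommRingCat.ofHom (Ideal.Quotient.mk (Ideal.span {ε})))
    refine triv_prod_step pX pY hX hY x hx y hy ε hε₁ hann L hL ?_ h₁ h₂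
    let q' : B →+* A ⧸ Ideal.span {ε} := (Ideal.Quotient.mk _).comp q
    obtain ⟨b, hb⟩ := hq ε
    have hlt : J < RingHom.ker q' := by
      refine lt_of_le_of_ne (fun z hz => ?_) fun h => ?_
      · rw [← hJ, RingHom.mem_ker] at hz
        rw [RingHom.mem_ker, RingHom.comp_apply, hz, map_zero]
      · have hmem : b ∈ RingHom.ker q' := by
          rw [RingHom.mem_ker, RingHom.comp_apply, hb, Ideal.Quotient.eq_zero_iff_mem]
          exact Ideal.mem_span_singleton_self ε
        rw [← h, ← hJ, RingHom.mem_ker, hb] at hmem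
        exact hε0 hmem
    haveI : Nontrivial (A ⧸ Ideal.span {ε}) := Ideal.Quotient.nontrivial_iff.2 fun h =>
      (IsLocalRing.maximalIdeal.isMaximal A).ne_top
        (top_le_iff.1 (h.ge.trans ((Ideal.span_singleton_le_iff_mem _).2 hε₁)))
    haveI : IsLocalRing (A ⧸ Ideal.span {ε}) :=
      IsLocalRing.of_surjective' (Ideal.Quotient.mk _) Ideal.Quotient.mk_surjective
    refine ih _ hlt (A ⧸ Ideal.span {ε}) q' (Ideal.Quotient.mk_surjective.comp hq) rfl
      (pullback.snd pX qC) (pullback.snd pY qC) (hX.baseChange qC) (hY.baseChange qC)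
      (sect pX qC x hx) (sect_snd pX qC x hx) (sect pY qC y hy) (sect_snd pY qC y hy) _
      (PicClLib.isInvertible_pullback _ hL) ?_ ?_ ?_
    · intro K _ k
      refine (TrivBasic.triv_comp_iff _ _).2 (SeesawGlobal.triv_of_factor
        (pullback.lift (pullback.fst _ k ≫ prodMap pX pY qC) (pullback.snd _ k) (by
          rw [Category.assoc, (isPullback_prodMap pX pY qC).w, pullback.condition_assoc]) :
          pullback (prodHom (pullback.snd pX qC) (pullback.snd pY qC)) k ⟶ pullback (prodHom pX pY) (k ≫ qC))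
        (pullback.lift_fst _ _ _) (h₀ K (k ≫ qC)))
    · refine (TrivBasic.triv_comp_iff _ _).2 ?_
      rw [slice₁_prodMap]
      exact SeesawGlobal.triv_of_factor (pullback.fst pY qC) rfl h₁
    · refine (TrivBasic.triv_comp_iff _ _).2 ?_
      rw [slice₂_prodMap]
      exact SeesawGlobal.triv_of_factor (pullback.fst pX qC) rfl h₂

end Main

end Groth.Agent.AbSchX.CubeBase
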