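import Groth.Agent.AbSchX.CubeBase.Approx

/-! The locus of trivial fibres is closed, over any base. -/

set_option autoImplicit false
set_option linter.style.haveILetI false
set_option backward.isDefEq.respectTransparency false
set_option backward.isDefEq.respectTransparency.types false
universe u

open CategoryTheory CategoryTheory.Limits AlgebraicGeometry TopologicalSpace Opposite

namespace Groth.Agent.AbSchX.CubeBase

open Groth.Agent.InvX Groth.Agent.H23 Groth.Agent.H23.TrivBasic
open scoped Groth.Agent.H23.PicMul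

section Affine

variable {A : Type u} [CommRing A] {X : Scheme.{u}} [X.Over (Spec (CommRingCat.of A))]
  {L D : X.Modules} (hL : PicF.IsInvertible L) (hD : PicF.IsInvertible D)
  (φ : CohB1.tensorMod L D ≅ Coh.structureModule X)
  {Q : ModuleCat.{u} A} {e : (Q →ₗ[A] A) ≃+ Γ(L, ⊤)} (hQ : SecRep.IsRep L Q e)
  {Q' : ModuleCat.{u} A} {e' : (Q' →ₗ[A] A) ≃+ Γ(D, ⊤)} (hQ' : SecRep.IsRep D Q' e')
  (K : Type u) [Field K] [Algebra A K]

local notation "π" => (X ↘ Spec (CommRingCat.of A))

include φ in
theorem triv_inverse {Z : Scheme.{u}} (p : Z ⟶ X) (hT : Triv ((Scheme.Modules.pullback p).obj L)) :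
    Triv ((Scheme.Modules.pullback p).obj D) := by
  refine Triv.of_iso ((PicMul.unit _).some) ?_
  refine Triv.of_iso (PicGrp.tensorModIso (Iso.refl _) hT.some) ?_
  refine Triv.of_iso ((PicMul.comm _ _).some) ?_
  refine Triv.of_iso ((PicMul.pull p L D).some) ?_
  exact Triv.pullback p ⟨φ⟩

include hQ in
theorem exists_form_of_triv (h0 : Function.Bijective (pullback.snd π (Seesaw.specAlg A K)).appTop)
    (hT : Triv ((Scheme.Modules.pullback (pullback.fst π (Seesaw.specAlg A K))).obj L)) :
    ∃ g : Q →ₗ[A] K, g ≠ 0 := by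
  obtain ⟨eB, -, -⟩ := hQ K _ _ _ (IsPullback.of_hasPullback π _)
  haveI := (Seesaw.isField_Γ _ h0).toField.toNontrivial
  obtain ⟨s, hs⟩ := hT.exists_frame
  refine ⟨eB.symm s, fun h => ?_⟩
  have hs0 : s = 0 := by rw [← eB.apply_symm_apply s, h, map_zero]
  exact zero_ne_one (hs.coord_unique le_rfl (r := 0) (r' := 1) (by simp [hs0]))

include hL hD φ hQ hQ' in
/-- Nonzero sections of a module and of its inverse on an integral proper fibre make it trivial. -/
theorem triv_of_forms [IsIntegral (pullback π (Seesaw.specAlg A K))]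
    (h0 : Function.Bijective (pullback.snd π (Seesaw.specAlg A K)).appTop)
    (hg₁ : ∃ g : Q →ₗ[A] K, g ≠ 0) (hg₂ : ∃ g : Q' →ₗ[A] K, g ≠ 0) :
    Triv ((Scheme.Modules.pullback (pullback.fst π (Seesaw.specAlg A K))).obj L) := by
  obtain ⟨g, hg⟩ := hg₁
  obtain ⟨g', hg'⟩ := hg₂
  let p := pullback.fst π (Seesaw.specAlg A K)
  let v := pullback.snd π (Seesaw.specAlg A K)
  let X' := pullback π (Seesaw.specAlg A K)
  obtain ⟨eB, -, -⟩ := hQ K _ p v (IsPullback.of_hasPullback π _)
  obtain ⟨eB', -, -⟩ := hQ' K _ p v (IsPullback.of_hasPullback π _)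
  have hs : eB g ≠ 0 := fun h => hg (eB.injective (h.trans (map_zero eB).symm))
  have hs' : eB' g' ≠ 0 := fun h => hg' (eB'.injective (h.trans (map_zero eB').symm))
  have hP := PicClLib.isInvertible_pullback p hL
  have hP' := PicClLib.isInvertible_pullback p hD
  have hne : locus (eB g) ⊓ locus (eB' g') ≠ ⊥ := by
    intro h
    obtain ⟨z, hz⟩ := Opens.ne_bot_iff_nonempty _ |>.1 (locus_ne_bot hP hs)
    obtain ⟨z', hz'⟩ := Opens.ne_bot_iff_nonempty _ |>.1 (locus_ne_bot hP' hs')
    obtain ⟨w, hw⟩ := nonempty_preirreducible_inter (locus (eB g)).isOpen (locus (eB' g')).isOpen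
      ⟨z, hz⟩ ⟨z', hz'⟩
    exact (Opens.ne_bot_iff_nonempty _).2 ⟨w, hw⟩ h
  let ψ : CohB1.tensorMod ((Scheme.Modules.pullback p).obj L) ((Scheme.Modules.pullback p).obj D) ≅
      Coh.structureModule X' :=
    (PicMul.pull p L D).some.symm ≪≫ (Scheme.Modules.pullback p).mapIso φ ≪≫
      (PicClLib.nonempty_pullback_structureModule p).some
  let m := mulHom (ofSect (eB g)) (ofSect (eB' g'))
  have hloc : locus (one m) = locus (eB g) ⊓ locus (eB' g') := by
    refine Eq.trans ?_ (genLocus_mulHom hP hP' (ofSect (eB g)) (ofSect (eB' g')))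
    show CohB1.genLocus _ (ofSect (one m)) = CohB1.genLocus _ m
    congr 1
    show ofSect (one (ofSect _)) = ofSect _
    rw [one_ofSect]
  have hm : one m ≠ 0 := by
    intro h
    refine hne (hloc.symm.trans ?_)
    refine bot_unique fun z hz => ?_
    obtain ⟨U, hzU, hU⟩ := mem_locus_iff.1 hz
    rw [h, map_zero] at hU
    have h01 := hU.coord_unique le_rfl (r := (0 : Γ(X', U))) (r' := 1) (by simp)
    have : U = ⊥ := by
      rw [← X'.basicOpen_of_isUnit (isUnit_one : IsUnit (1 : Γ(X', U))), ← h01, Scheme.basicOpen_zero]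
    exact this ▸ hzU
  have hframe : IsFrame (one m) := TrivBasic.isFrame_of_ne_zero ⟨ψ⟩ (Seesaw.isField_Γ v h0) hm
  have htop : locus (eB g) ⊓ locus (eB' g') = ⊤ := hloc.symm.trans (locus_eq_top_iff.2 hframe)
  exact triv_of_frame (locus_eq_top_iff.1 (top_le_iff.1 (htop.ge.trans inf_le_left)))

theorem exists_form_iff_mem_support [IsNoetherianRing A] (M : Type u) [AddCommGroup M] [Module A M] [Module.Finite A M]
    (x : PrimeSpectrum A) (hx : RingHom.ker (algebraMap A K) = x.asIdeal) :
    (∃ g : M →ₗ[A] K, g ≠ 0) ↔ x ∈ Module.support A M := by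
  constructor
  · rintro ⟨g, hg⟩
    obtain ⟨q, hq⟩ : ∃ q, g q ≠ 0 := by
      by_contra H
      push Not at H
      exact hg (LinearMap.ext H)
    refine Module.mem_support_iff_exists_annihilator.2 ⟨q, fun a ha => ?_⟩
    rw [← hx, RingHom.mem_ker]
    have h0 := congrArg g (Submodule.mem_annihilator_span_singleton q a |>.1 ha)
    rw [map_smul, map_zero, Algebra.smul_def] at h0
    exact (mul_eq_zero.1 h0).resolve_right hq
  · intro h
    obtain ⟨g, hg⟩ := (Seesaw.exists_form_ne_zero_iff M x).2 h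
    let ι := Ideal.ResidueField.lift x.asIdeal (algebraMap A K) (fun a ha => by
      rw [← hx] at ha
      exact ha) fun a ha => Ne.isUnit fun h0 => ha (show a ∈ x.asIdeal from hx ▸ h0)
    let ι' : x.asIdeal.ResidueField →ₐ[A] K :=
      { ι with commutes' := fun a => Ideal.ResidueField.lift_algebraMap _ _ _ _ a }
    refine ⟨ι'.toLinearMap ∘ₗ g, fun h0 => hg (LinearMap.ext fun q => ?_)⟩
    exact ι.injective ((LinearMap.congr_fun h0 q).trans (map_zero ι).symm)

end Affine

/-- The closed set of points over which integral field fibres are trivial. -/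
theorem exists_closed_triv {P T : Scheme.{u}} (f : P ⟶ T) [IsAffine T] [IsNoetherian T] [IsProper f] [Flat f]
    {M : P.Modules} (hM : PicF.IsInvertible M) :
    ∃ C : Set T, IsClosed C ∧ ∀ (K : Type u) [Field K] (k : Spec (CommRingCat.of K) ⟶ T),
      IsIntegral (pullback f k) → Function.Bijective (pullback.snd f k).appTop →
        (Triv ((Scheme.Modules.pullback (pullback.fst f k)).obj M) ↔ k (IsLocalRing.closedPoint K) ∈ C) := by
  let A := Γ(T, ⊤)
  haveI : IsNoetherianRing A := IsLocallyNoetherian.component_noetherian ⟨⊤, isAffineOpen_top T⟩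
  let g : Spec (CommRingCat.of A) ⟶ T := T.isoSpec.inv
  let X := SeesawGlobal.chart f A g
  let L := SeesawGlobal.chartMod f M A g
  have hL : PicF.IsInvertible L := PicClLib.isInvertible_pullback _ hM
  obtain ⟨D, hD, ⟨φ⟩⟩ := PicInv.exists_inverse hL
  obtain ⟨Q, hfin, e, hQ⟩ := Seesaw.exists_rep (A := A) L hL
  obtain ⟨Q', hfin', e', hQ'⟩ := Seesaw.exists_rep (A := A) D hD
  refine ⟨T.isoSpec.hom ⁻¹' (Module.support A Q ∩ Module.support A Q'),
    (Module.isClosed_support.inter Module.isClosed_support).preimage T.isoSpec.hom.continuous, fun K _ k hint h0 => ?_⟩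
  obtain ⟨α, hα⟩ := Spec.map_surjective (k ≫ T.isoSpec.hom : Spec (CommRingCat.of K) ⟶ Spec (CommRingCat.of A))
  letI : Algebra A K := α.hom.toAlgebra
  have hfac : Seesaw.specAlg A K ≫ g = k := by
    show Spec.map α ≫ T.isoSpec.inv = k
    rw [hα, Category.assoc, Iso.hom_inv_id, Category.comp_id]
  let x : PrimeSpectrum A := T.isoSpec.hom (k (IsLocalRing.closedPoint K))
  have hx : RingHom.ker (algebraMap A K) = x.asIdeal := by
    have : Spec.map α (IsLocalRing.closedPoint K) = x := by rw [hα]; rfl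
    rw [← this]
    show RingHom.ker α.hom = Ideal.comap α.hom (IsLocalRing.closedPoint K).asIdeal
    rw [show (IsLocalRing.closedPoint K).asIdeal = ⊥ from IsLocalRing.maximalIdeal_eq_bot]
    rfl
  let ε := pullbackLeftPullbackSndIso f g (Seesaw.specAlg A K) ≪≫ pullback.congrHom rfl hfac
  have hε₁ : ε.hom ≫ pullback.fst f k = pullback.fst (pullback.snd f g) (Seesaw.specAlg A K) ≫ pullback.fst f g := by
    simp [ε, pullback.congrHom, pullback.map, pullback.lift_fst]
  have hε₂ : ε.hom ≫ pullback.snd f k = pullback.snd (pullback.snd f g) (Seesaw.specAlg A K) := by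
    simp [ε, pullback.congrHom, pullback.map, pullback.lift_snd]
  haveI : IsIntegral (pullback (X ↘ Spec (CommRingCat.of A)) (Seesaw.specAlg A K)) := by
    haveI := hint
    haveI : Nonempty ↥(pullback (X ↘ Spec (CommRingCat.of A)) (Seesaw.specAlg A K)) :=
      (inferInstance : Nonempty ↥(pullback f k)).map ε.inv
    exact isIntegral_of_isOpenImmersion ε.hom
  have h0' : Function.Bijective (pullback.snd (X ↘ Spec (CommRingCat.of A)) (Seesaw.specAlg A K)).appTop := by
    show Function.Bijective (pullback.snd (pullback.snd f g) (Seesaw.specAlg A K)).appTop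
    rw [← hε₂, Scheme.Hom.comp_appTop]
    exact (SeesawGlobal.bijective_appTop_iso ε).comp h0
  have hiff : Triv ((Scheme.Modules.pullback (pullback.fst f k)).obj M) ↔
      Triv ((Scheme.Modules.pullback (pullback.fst (X ↘ Spec (CommRingCat.of A)) (Seesaw.specAlg A K))).obj L) := by
    refine ⟨fun h => (triv_comp_iff _ _).2 (SeesawGlobal.triv_of_factor ε.hom hε₁ h), fun h => ?_⟩
    exact SeesawGlobal.triv_of_factor ε.inv (by rw [Iso.inv_comp_eq]; exact hε₁.symm) ((triv_comp_iff _ _).1 h)
  show _ ↔ x ∈ Module.support A Q ∧ x ∈ Module.support A Q'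
  rw [hiff, ← exists_form_iff_mem_support K Q x hx, ← exists_form_iff_mem_support K Q' x hx]
  exact ⟨fun h => ⟨exists_form_of_triv hQ K h0' h, exists_form_of_triv hQ' K h0' (triv_inverse φ _ h)⟩,
    fun h => triv_of_forms hL hD φ hQ hQ' K h0' h.1 h.2⟩

end Groth.Agent.AbSchX.CubeBase
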