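import Groth.Agent.AbSchX.CubeBase.General
import Groth.Agent.AbSchX.CubeBase.ClosedLocus

/-! The cube principle: the points over which a rigidified module is trivial form a clopen set. -/

set_option autoImplicit false
set_option linter.style.haveILetI false
set_option backward.isDefEq.respectTransparency.types false
universe u

open CategoryTheory CategoryTheory.Limits AlgebraicGeometry TopologicalSpace Opposite

namespace Groth.Agent.AbSchX.CubeBase

open Groth.Agent.InvX Groth.Agent.H23 Groth.Agent.H23.TrivBasic Groth.Agent.MorLib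

variable {S X Y : Scheme.{u}} (pX : X ⟶ S) (pY : Y ⟶ S)

theorem fieldH0_baseChange {Z T : Scheme.{u}} (π : Z ⟶ S) (q : T ⟶ S) (t : T)
    (h : SeesawGlobal.FieldH0 π (q t)) : SeesawGlobal.FieldH0 (pullback.snd π q) t := by
  intro K _ k hk
  rw [← pullbackLeftPullbackSndIso_hom_snd π q k, Scheme.Hom.comp_appTop]
  exact (SeesawGlobal.bijective_appTop_iso (pullbackLeftPullbackSndIso π q k)).comp
    (h K (k ≫ q) (congrArg q hk))

theorem fieldTriv_baseChange (L : (pullback pX pY).Modules) {T : Scheme.{u}} (q : T ⟶ S) (t : T)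
    (h : SeesawGlobal.FieldTriv (prodHom pX pY) L (q t)) :
    SeesawGlobal.FieldTriv (prodHom (pullback.snd pX q) (pullback.snd pY q))
      ((Scheme.Modules.pullback (prodMap pX pY q)).obj L) t := fun K _ k hk =>
  (TrivBasic.triv_comp_iff _ _).2 (SeesawGlobal.triv_of_factor
    (pullback.lift (pullback.fst _ k ≫ prodMap pX pY q) (pullback.snd _ k) (by
      rw [Category.assoc, (isPullback_prodMap pX pY q).w, pullback.condition_assoc]) :
      pullback (prodHom (pullback.snd pX q) (pullback.snd pY q)) k ⟶ pullback (prodHom pX pY) (k ≫ q))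
    (pullback.lift_fst _ _ _) (h K (k ≫ q) (congrArg q hk)))

/-- Field fibres of a product of geometrically integral schemes are integral. -/
theorem isIntegral_fibre_prod [IsProper pX] [Flat pX] [LocallyOfFinitePresentation pX] [GeometricallyIntegral pX]
    [IsProper pY] [GeometricallyIntegral pY] (K : Type u) [Field K] (k : Spec (CommRingCat.of K) ⟶ S) :
    IsIntegral (pullback (prodHom pX pY) k) := by
  let qX := pullback.snd pX k
  let qY := pullback.snd pY k
  haveI : IsProper qY := MorphismProperty.pullback_snd _ _ inferInstance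
  haveI : GeometricallyIntegral qY := inferInstanceAs (GeometricallyIntegral (pullback.snd pY k))
  haveI : IsIntegral (pullback pY k) := GeometricallyIntegral.isIntegral_of_subsingleton qY
  haveI : IsLocallyNoetherian (pullback pY k) := LocallyOfFiniteType.isLocallyNoetherian qY
  haveI : Flat qX := MorphismProperty.pullback_snd _ _ inferInstance
  haveI : LocallyOfFinitePresentation qX := MorphismProperty.pullback_snd _ _ inferInstance
  haveI : GeometricallyIntegral qX := inferInstanceAs (GeometricallyIntegral (pullback.snd pX k))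
  haveI : UniversallyOpen qX := inferInstance
  haveI : IsIntegral (pullback qX qY) := inferInstance
  let e := (isPullback_prodMap pX pY k).isoPullback
  haveI : Nonempty ↥(pullback (prodHom pX pY) k) := (inferInstance : Nonempty ↥(pullback qX qY)).map e.hom
  exact isIntegral_of_isOpenImmersion e.inv

section Limit

variable {I : Type u} [SmallCategory I] [IsCofiltered I] {D : I ⥤ Scheme.{u}} {c : Cone D}
  (hc : IsLimit c) (hA : ∀ i, IsAffine (D.obj i))
  {X Y : Scheme.{u}} {pX : X ⟶ c.pt} {pY : Y ⟶ c.pt} {x : c.pt ⟶ X} {y : c.pt ⟶ Y}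
  (hx : x ≫ pX = 𝟙 c.pt) (hy : y ≫ pY = 𝟙 c.pt)

include hc hA hx hy in
/-- The trivial locus is closed over a limit of Noetherian affine schemes. -/
theorem isClosed_fieldTriv_limit [IsProper pX] [IsProper pY] [Flat pX] [Flat pY]
    [LocallyOfFinitePresentation pX] [LocallyOfFinitePresentation pY] [GeometricallyIntegral pX]
    [GeometricallyIntegral pY] (hN : ∀ i, IsNoetherian (D.obj i))
    (L : (pullback pX pY).Modules) (hL : PicF.IsInvertible L) :
    IsClosed {s : c.pt | SeesawGlobal.FieldTriv (prodHom pX pY) L s} := by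
  obtain ⟨i₁, ⟨a₁⟩⟩ := exists_stg hc hA pX x hx
  obtain ⟨i₂, ⟨b₂⟩⟩ := exists_stg hc hA pY y hy
  obtain ⟨i, φ, M, hM, ⟨eM⟩⟩ := exists_mod_stage hc hA hx hy (a₁.push hx (IsCofiltered.minToLeft i₁ i₂))
    (b₂.push hy (IsCofiltered.minToRight i₁ i₂)) L hL
  let a := (a₁.push hx (IsCofiltered.minToLeft i₁ i₂)).push hx φ
  let b := (b₂.push hy (IsCofiltered.minToRight i₁ i₂)).push hy φ
  haveI := hA i
  haveI := hN i
  let πi := prodHom a.f b.f
  haveI : IsProper πi := inferInstanceAs (IsProper (pullback.fst a.f b.f ≫ a.f))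
  haveI : Flat πi := inferInstanceAs (Flat (pullback.fst a.f b.f ≫ a.f))
  obtain ⟨C, hC, hCiff⟩ := exists_closed_triv πi hM
  let π := c.π.app i
  rw [show {s : c.pt | SeesawGlobal.FieldTriv (prodHom pX pY) L s} = π ⁻¹' C from Set.ext fun s => ?_]
  · exact hC.preimage π.continuous
  let K := c.pt.residueField s
  let ks := c.pt.fromSpecResidueField s
  have hks : ks (IsLocalRing.closedPoint K) = s := Scheme.fromSpecResidueField_apply _ _
  let k : Spec (CommRingCat.of K) ⟶ D.obj i := ks ≫ π
  have hk : k (IsLocalRing.closedPoint K) = π s := congrArg π hks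
  have hsq := isPullback_qP a b
  have hpaste := (IsPullback.of_hasPullback (prodHom pX pY) ks).paste_horiz hsq
  haveI : IsIntegral (pullback (prodHom pX pY) ks) := isIntegral_fibre_prod pX pY K ks
  let ε := hpaste.isoPullback
  haveI : Nonempty ↥(pullback πi k) := (inferInstance : Nonempty ↥(pullback (prodHom pX pY) ks)).map ε.hom
  have hint : IsIntegral (pullback πi k) := isIntegral_of_isOpenImmersion ε.inv
  have h0 : Function.Bijective (pullback.snd πi k).appTop := by
    have h : Function.Bijective (pullback.snd (prodHom pX pY) ks).appTop :=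
      fieldH0_prod pX pY
        (PicFRel.UnivH0.fieldH0_of_fibre pX s (RigidApply.constFibres_of_geometricallyIntegral pX s))
        (PicFRel.UnivH0.fieldH0_of_fibre pY s (RigidApply.constFibres_of_geometricallyIntegral pY s)) K ks hks
    rw [← hpaste.isoPullback_inv_snd, Scheme.Hom.comp_appTop]
    exact (SeesawGlobal.bijective_appTop_iso ε.symm).comp h
  show SeesawGlobal.FieldTriv (prodHom pX pY) L s ↔ π s ∈ C
  rw [SeesawGlobal.fieldTriv_iff_residueField, ← hk, ← hCiff K k hint h0]
  constructor
  · intro h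
    refine SeesawGlobal.triv_of_factor ε.inv hpaste.isoPullback_inv_fst ?_
    exact (triv_comp_iff _ _).1 (Triv.of_iso ((Scheme.Modules.pullback _).mapIso eM.symm) h)
  · intro h
    refine Triv.of_iso ((Scheme.Modules.pullback _).mapIso eM) ((triv_comp_iff _ _).2 ?_)
    exact SeesawGlobal.triv_of_factor ε.hom hpaste.isoPullback_hom_fst h

end Limit

/-- The trivial locus is closed. -/
theorem isClosed_fieldTriv_any [IsProper pX] [IsProper pY] [Flat pX] [Flat pY] [LocallyOfFinitePresentation pX]
    [LocallyOfFinitePresentation pY] [GeometricallyIntegral pX] [GeometricallyIntegral pY]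
    (x : S ⟶ X) (hx : x ≫ pX = 𝟙 S) (y : S ⟶ Y) (hy : y ≫ pY = 𝟙 S)
    (L : (pullback pX pY).Modules) (hL : PicF.IsInvertible L) :
    IsClosed {s : S | SeesawGlobal.FieldTriv (prodHom pX pY) L s} := by
  rw [← isOpen_compl_iff, isOpen_iff_forall_mem_open]
  intro s hs
  obtain ⟨_, ⟨U, hU, rfl⟩, hsU, -⟩ := S.isBasis_affineOpens.exists_subset_of_mem_open (Set.mem_univ s) isOpen_univ
  have hU' : IsAffineOpen U := hU
  let R := Γ(S, U)
  let q : Spec R ⟶ S := hU'.fromSpec
  haveI : IsOpenImmersion q := inferInstanceAs (IsOpenImmersion hU'.fromSpec)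
  obtain ⟨t, rfl⟩ : s ∈ Set.range q := by
    show s ∈ Set.range hU'.fromSpec
    rwa [hU'.range_fromSpec]
  haveI : ∀ {i j : (Finset R)ᵒᵖ} (f : i ⟶ j), IsAffineHom ((ConsPropLib.NoethApprox.diagram R).map f) :=
    fun f => ConsPropLib.NoethApprox.isAffineHom_map R f
  let pX' : pullback pX q ⟶ (ConsPropLib.NoethApprox.cone R).pt := pullback.snd pX q
  let pY' : pullback pY q ⟶ (ConsPropLib.NoethApprox.cone R).pt := pullback.snd pY q
  haveI : IsProper pX' := MorphismProperty.pullback_snd _ _ inferInstance
  haveI : IsProper pY' := MorphismProperty.pullback_snd _ _ inferInstance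
  haveI : Flat pX' := MorphismProperty.pullback_snd _ _ inferInstance
  haveI : Flat pY' := MorphismProperty.pullback_snd _ _ inferInstance
  haveI : LocallyOfFinitePresentation pX' := MorphismProperty.pullback_snd _ _ inferInstance
  haveI : LocallyOfFinitePresentation pY' := MorphismProperty.pullback_snd _ _ inferInstance
  haveI : GeometricallyIntegral pX' := inferInstanceAs (GeometricallyIntegral (pullback.snd pX q))
  haveI : GeometricallyIntegral pY' := inferInstanceAs (GeometricallyIntegral (pullback.snd pY q))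
  have hcl := isClosed_fieldTriv_limit (D := ConsPropLib.NoethApprox.diagram R)
    (c := ConsPropLib.NoethApprox.cone R) (ConsPropLib.NoethApprox.isLimit R) (fun _ => inferInstance)
    (pX := pX') (pY := pY') (x := sect pX q x hx) (y := sect pY q y hy) (sect_snd pX q x hx) (sect_snd pY q y hy)
    (fun _ => inferInstance) ((Scheme.Modules.pullback (prodMap pX pY q)).obj L)
    (PicClLib.isInvertible_pullback _ hL)
  have hiff : ∀ t' : Spec R, SeesawGlobal.FieldTriv (prodHom (pullback.snd pX q) (pullback.snd pY q))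
      ((Scheme.Modules.pullback (prodMap pX pY q)).obj L) t' → SeesawGlobal.FieldTriv (prodHom pX pY) L (q t') := by
    intro t' h K _ k hk
    have hr : Set.range k ⊆ Set.range q := by
      rintro _ ⟨z, rfl⟩
      rw [Subsingleton.elim z (IsLocalRing.closedPoint K), hk]
      exact ⟨t', rfl⟩
    let k' := IsOpenImmersion.lift q k hr
    have hk' : k' (IsLocalRing.closedPoint K) = t' := by
      refine q.isOpenEmbedding.injective ?_
      rw [← hk]
      exact congr($(IsOpenImmersion.lift_fac q k hr) (IsLocalRing.closedPoint K))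
    have hpaste := (IsPullback.of_hasPullback (prodHom (pullback.snd pX q) (pullback.snd pY q)) k').paste_horiz
      (isPullback_prodMap pX pY q)
    rw [IsOpenImmersion.lift_fac] at hpaste
    exact SeesawGlobal.triv_of_factor hpaste.isoPullback.inv hpaste.isoPullback_inv_fst
      ((triv_comp_iff _ _).1 (h K k' hk'))
  refine ⟨q '' {t' | ¬ SeesawGlobal.FieldTriv (prodHom (pullback.snd pX q) (pullback.snd pY q))
      ((Scheme.Modules.pullback (prodMap pX pY q)).obj L) t'}, ?_, q.isOpenEmbedding.isOpenMap _ hcl.isOpen_compl,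
    ⟨t, fun h => hs (hiff t h), rfl⟩⟩
  rintro _ ⟨t', ht', rfl⟩ h
  exact ht' (fieldTriv_baseChange pX pY L q t' h)

/-- The cube principle. -/
theorem exists_clopen_triv [IsProper pX] [IsProper pY] [Flat pX] [Flat pY] [LocallyOfFinitePresentation pX]
    [LocallyOfFinitePresentation pY] [GeometricallyIntegral pX] [GeometricallyIntegral pY]
    (x : S ⟶ X) (hx : x ≫ pX = 𝟙 S) (y : S ⟶ Y) (hy : y ≫ pY = 𝟙 S)
    (L : (pullback pX pY).Modules) (hL : PicF.IsInvertible L)
    (h₁ : Triv ((Scheme.Modules.pullback (slice₁ pX pY x hx)).obj L))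
    (h₂ : Triv ((Scheme.Modules.pullback (slice₂ pX pY y hy)).obj L))
    (s : S) (hs : Triv ((Scheme.Modules.pullback (pullback.fst (prodHom pX pY) (S.fromSpecResidueField s))).obj L)) :
    ∃ W : S.Opens, IsClosed (W : Set S) ∧ s ∈ W ∧
      Triv ((Scheme.Modules.pullback ((prodHom pX pY) ⁻¹ᵁ W).ι).obj L) := by
  have hX0 : ∀ s, SeesawGlobal.FieldH0 pX s := fun s =>
    PicFRel.UnivH0.fieldH0_of_fibre pX s (RigidApply.constFibres_of_geometricallyIntegral pX s)
  have hY0 : ∀ s, SeesawGlobal.FieldH0 pY s := fun s =>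
    PicFRel.UnivH0.fieldH0_of_fibre pY s (RigidApply.constFibres_of_geometricallyIntegral pY s)
  let T := {s : S | SeesawGlobal.FieldTriv (prodHom pX pY) L s}
  have hopen : IsOpen T := isOpen_iff_forall_mem_open.2 fun t ht => by
    obtain ⟨V, htV, ⟨e, he⟩, -⟩ := exists_local_any pX pY x hx y hy L hL h₁ h₂ t (hX0 t) (hY0 t) ht
    refine ⟨V, fun w hw K _ k hk => ?_, V.isOpen, htV⟩
    have hle : (⊤ : (pullback (prodHom pX pY) k).Opens) ≤
        pullback.fst (prodHom pX pY) k ⁻¹ᵁ (prodHom pX pY ⁻¹ᵁ V) := fun z _ => by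
      show prodHom pX pY (pullback.fst (prodHom pX pY) k z) ∈ V
      rw [← Scheme.Hom.comp_apply, pullback.condition, Scheme.Hom.comp_apply,
        Subsingleton.elim (pullback.snd (prodHom pX pY) k z) (IsLocalRing.closedPoint K), hk]
      exact hw
    exact TrivBasic.triv_of_frame ((isFrame_pullElt _ he).res hle)
  let W : S.Opens := ⟨T, hopen⟩
  refine ⟨W, isClosed_fieldTriv_any pX pY x hx y hy L hL, (SeesawGlobal.fieldTriv_iff_residueField s).2 hs, ?_⟩
  let q := W.ι
  let pX' := pullback.snd pX q
  let pY' := pullback.snd pY q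
  haveI : IsProper pX' := MorphismProperty.pullback_snd _ _ inferInstance
  haveI : IsProper pY' := MorphismProperty.pullback_snd _ _ inferInstance
  haveI : Flat pX' := MorphismProperty.pullback_snd _ _ inferInstance
  haveI : Flat pY' := MorphismProperty.pullback_snd _ _ inferInstance
  haveI : LocallyOfFinitePresentation pX' := MorphismProperty.pullback_snd _ _ inferInstance
  haveI : LocallyOfFinitePresentation pY' := MorphismProperty.pullback_snd _ _ inferInstance
  have h := triv_prod_any pX' pY' (sect pX q x hx) (sect_snd pX q x hx) (sect pY q y hy) (sect_snd pY q y hy)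
    ((Scheme.Modules.pullback (prodMap pX pY q)).obj L) (PicClLib.isInvertible_pullback _ hL)
    ((TrivBasic.triv_comp_iff _ _).2 ((triv_congr (slice₁_prodMap pX pY q x hx)).2
      (SeesawGlobal.triv_of_factor (pullback.fst pY q) rfl h₁)))
    ((TrivBasic.triv_comp_iff _ _).2 ((triv_congr (slice₂_prodMap pX pY q y hy)).2
      (SeesawGlobal.triv_of_factor (pullback.fst pX q) rfl h₂)))
    (fun t => fieldH0_baseChange pX q t (hX0 _)) (fun t => fieldH0_baseChange pY q t (hY0 _))
    fun t => fieldTriv_baseChange pX pY L q t t.2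
  have hsq := isPullback_prodMap pX pY q
  exact SeesawGlobal.triv_of_factor
    (hsq.lift ((prodHom pX pY) ⁻¹ᵁ W).ι (prodHom pX pY ∣_ W) (morphismRestrict_ι _ W).symm)
    (hsq.lift_fst _ _ _) h

end Groth.Agent.AbSchX.CubeBase
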