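import Groth.Agent.AbSchX.CubeBase.CubePrinciple

/-! The cube principle for a module on `(X ×_S Y) ×_S Z`. -/

set_option autoImplicit false
set_option linter.style.haveILetI false
set_option backward.isDefEq.respectTransparency.types false
universe u

open CategoryTheory CategoryTheory.Limits AlgebraicGeometry TopologicalSpace Opposite

namespace Groth.Agent.AbSchX.CubeBase

open Groth.Agent.InvX Groth.Agent.H23 Groth.Agent.H23.TrivBasic

variable {S X Y Z : Scheme.{u}} (pX : X ⟶ S) (pY : Y ⟶ S) (pZ : Z ⟶ S)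

/-- The cube principle, with the parameter scheme as a third factor. -/
theorem exists_clopen_triv_fst [IsProper pX] [IsProper pY] [Flat pX] [Flat pY] [LocallyOfFinitePresentation pX]
    [LocallyOfFinitePresentation pY] [GeometricallyIntegral pX] [GeometricallyIntegral pY]
    (x : S ⟶ X) (hx : x ≫ pX = 𝟙 S) (y : S ⟶ Y) (hy : y ≫ pY = 𝟙 S)
    (L : (pullback (prodHom pX pY) pZ).Modules) (hL : PicF.IsInvertible L)
    (h₁ : Triv ((Scheme.Modules.pullback (pullback.map (slice₁ pX pY x hx ≫ prodHom pX pY) pZ (prodHom pX pY) pZ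
      (slice₁ pX pY x hx) (𝟙 Z) (𝟙 S) (Category.comp_id _)
      ((Category.comp_id pZ).trans (Category.id_comp pZ).symm))).obj L))
    (h₂ : Triv ((Scheme.Modules.pullback (pullback.map (slice₂ pX pY y hy ≫ prodHom pX pY) pZ (prodHom pX pY) pZ
      (slice₂ pX pY y hy) (𝟙 Z) (𝟙 S) (Category.comp_id _)
      ((Category.comp_id pZ).trans (Category.id_comp pZ).symm))).obj L))
    (z : Z) (h₃ : Triv ((Scheme.Modules.pullback ((pullback.snd (prodHom pX pY) pZ).fiberι z)).obj L)) :
    ∃ W : Z.Opens, IsClosed (W : Set Z) ∧ z ∈ W ∧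
      Triv ((Scheme.Modules.pullback ((pullback.snd (prodHom pX pY) pZ) ⁻¹ᵁ W).ι).obj L) := by
  let pX' := pullback.snd pX pZ
  let pY' := pullback.snd pY pZ
  haveI : IsProper pX' := MorphismProperty.pullback_snd _ _ inferInstance
  haveI : IsProper pY' := MorphismProperty.pullback_snd _ _ inferInstance
  haveI : Flat pX' := MorphismProperty.pullback_snd _ _ inferInstance
  haveI : Flat pY' := MorphismProperty.pullback_snd _ _ inferInstance
  haveI : LocallyOfFinitePresentation pX' := MorphismProperty.pullback_snd _ _ inferInstance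
  haveI : LocallyOfFinitePresentation pY' := MorphismProperty.pullback_snd _ _ inferInstance
  haveI : GeometricallyIntegral pX' := inferInstanceAs (GeometricallyIntegral (pullback.snd pX pZ))
  haveI : GeometricallyIntegral pY' := inferInstanceAs (GeometricallyIntegral (pullback.snd pY pZ))
  have hsq := isPullback_prodMap pX pY pZ
  let e := hsq.isoPullback
  let L' := (Scheme.Modules.pullback e.hom).obj L
  have hp₁ : slice₁ pX pY x hx ≫ prodHom pX pY = pY := by
    rw [slice₁, prodHom, pullback.lift_fst_assoc, Category.assoc, hx, Category.comp_id]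
  have hp₂ : slice₂ pX pY y hy ≫ prodHom pX pY = pX := by
    rw [slice₂, prodHom, pullback.lift_fst_assoc, Category.id_comp]
  have s₁ : Triv ((Scheme.Modules.pullback (slice₁ pX' pY' (sect pX pZ x hx) (sect_snd pX pZ x hx))).obj L') := by
    refine (triv_comp_iff _ _).2 (SeesawGlobal.triv_of_factor (pullback.lift (pullback.fst pY pZ) (pullback.snd pY pZ)
      ((congrArg (pullback.fst pY pZ ≫ ·) hp₁).trans pullback.condition)) ?_ h₁)
    refine pullback.hom_ext ?_ ?_
    · rw [Category.assoc, Category.assoc, pullback.lift_fst, pullback.lift_fst_assoc, hsq.isoPullback_hom_fst,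
        slice₁_prodMap]
    · rw [Category.assoc, Category.assoc, pullback.lift_snd, pullback.lift_snd_assoc, Category.comp_id,
        hsq.isoPullback_hom_snd, slice₁, prodHom, pullback.lift_fst_assoc, Category.assoc, sect_snd, Category.comp_id]
  have s₂ : Triv ((Scheme.Modules.pullback (slice₂ pX' pY' (sect pY pZ y hy) (sect_snd pY pZ y hy))).obj L') := by
    refine (triv_comp_iff _ _).2 (SeesawGlobal.triv_of_factor (pullback.lift (pullback.fst pX pZ) (pullback.snd pX pZ)
      ((congrArg (pullback.fst pX pZ ≫ ·) hp₂).trans pullback.condition)) ?_ h₂)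
    refine pullback.hom_ext ?_ ?_
    · rw [Category.assoc, Category.assoc, pullback.lift_fst, pullback.lift_fst_assoc, hsq.isoPullback_hom_fst,
        slice₂_prodMap]
    · rw [Category.assoc, Category.assoc, pullback.lift_snd, pullback.lift_snd_assoc, Category.comp_id,
        hsq.isoPullback_hom_snd, slice₂, prodHom, pullback.lift_fst_assoc, Category.id_comp]
  have hz : Triv ((Scheme.Modules.pullback (pullback.fst (prodHom pX' pY') (Z.fromSpecResidueField z))).obj L') := by
    refine (triv_comp_iff _ _).2 (SeesawGlobal.triv_of_factor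
      (pullback.lift (pullback.fst (prodHom pX' pY') (Z.fromSpecResidueField z) ≫ e.hom)
        (pullback.snd (prodHom pX' pY') (Z.fromSpecResidueField z))
        (by rw [Category.assoc, hsq.isoPullback_hom_snd, pullback.condition])) (pullback.lift_fst _ _ _) h₃)
  obtain ⟨W, hWc, hzW, hW⟩ := exists_clopen_triv pX' pY' (sect pX pZ x hx) (sect_snd pX pZ x hx)
    (sect pY pZ y hy) (sect_snd pY pZ y hy) L' (PicClLib.isInvertible_pullback _ hL) s₁ s₂ z hz
  refine ⟨W, hWc, hzW, ?_⟩
  let U := (pullback.snd (prodHom pX pY) pZ) ⁻¹ᵁ W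
  have hr : Set.range (U.ι ≫ e.inv) ⊆ Set.range ((prodHom pX' pY') ⁻¹ᵁ W).ι := by
    rw [Scheme.Opens.range_ι]
    rintro _ ⟨u, rfl⟩
    show prodHom pX' pY' (e.inv (U.ι u)) ∈ W
    rw [← Scheme.Hom.comp_apply, hsq.isoPullback_inv_snd]
    exact u.2
  refine SeesawGlobal.triv_of_factor (IsOpenImmersion.lift _ (U.ι ≫ e.inv) hr)
    (b := ((prodHom pX' pY') ⁻¹ᵁ W).ι ≫ e.hom) ?_ ((triv_comp_iff _ _).1 hW)
  rw [← Category.assoc, IsOpenImmersion.lift_fac, Category.assoc, Iso.inv_hom_id, Category.comp_id]

end Groth.Agent.AbSchX.CubeBase
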