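import Groth.Agent.PicFRel.UnivH0

/-! Constant functions and triviality on a fibre can be tested after a field extension. -/

set_option autoImplicit false
set_option linter.style.haveILetI false
set_option backward.isDefEq.respectTransparency false
set_option backward.isDefEq.respectTransparency.types false
universe u

open CategoryTheory CategoryTheory.Limits AlgebraicGeometry TopologicalSpace Opposite

namespace Groth.Agent.AbSchX.CubeBase

open Groth.Agent.InvX Groth.Agent.H23 Groth.Agent.H23.TrivBasic

section Field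

variable {k : Type u} [Field k] {Z : Scheme.{u}} [Z.Over (Spec (CommRingCat.of k))]
  [IsProper (Z ↘ Spec (CommRingCat.of k))] [Flat (Z ↘ Spec (CommRingCat.of k))]
  (K : Type u) [Field K] [Algebra k K]

set_option quotPrecheck false in
local notation "π" => (Z ↘ Spec (CommRingCat.of k))

/-- Constant functions descend along a field extension. -/
theorem bijective_of_ext
    (h : Function.Bijective (pullback.snd π (Seesaw.specAlg k K)).appTop) : Function.Bijective (π).appTop := by
  have hO : PicF.IsInvertible (Coh.structureModule Z) := Triv.isInvertible ⟨Iso.refl _⟩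
  obtain ⟨Q, -, e, hQ⟩ := Seesaw.exists_rep (A := k) (Coh.structureModule Z) hO
  let one : Γ(Coh.structureModule Z, ⊤) := (1 : Γ(Z, ⊤))
  have hone : IsFrame one := isFrame_one ⊤
  let v : Q →ₗ[k] k := e.symm one
  have hid : Seesaw.specAlg k k = 𝟙 _ := Spec.map_id _
  obtain ⟨e₁, he1, he2⟩ := hQ k Z (𝟙 Z) π (show IsPullback (𝟙 Z) π π (Seesaw.specAlg k k) by
    rw [hid]; exact IsPullback.of_horiz_isIso ⟨by simp⟩)
  obtain ⟨eK, hK1, hK2⟩ := hQ K _ _ _ (IsPullback.of_hasPullback π _)
  have hv1 : e₁ v = pullElt (𝟙 Z) one := by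
    have := he2 v
    rw [show Algebra.linearMap k k ∘ₗ v = v from LinearMap.ext fun _ => rfl] at this
    rw [this, AddEquiv.apply_symm_apply]
  have hvK : eK (Algebra.linearMap k K ∘ₗ v) = pullElt _ one := by
    rw [hK2, AddEquiv.apply_symm_apply]
  have hfr := isFrame_pullElt (pullback.fst π (Seesaw.specAlg k K)) hone
  have hfr₁ := isFrame_pullElt (𝟙 Z) hone
  haveI : Nontrivial Γ(pullback π (Seesaw.specAlg k K), ⊤) := (Seesaw.isField_Γ _ h).toField.toNontrivial
  have hv0 : v ≠ 0 := by
    intro h0
    refine zero_ne_one (hfr.coord_unique (le_refl ⊤) (r := 0) (r' := 1) ?_ :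
      (0 : Γ(pullback π (Seesaw.specAlg k K), ⊤)) = 1)
    have hz : pullElt (pullback.fst π (Seesaw.specAlg k K)) one = 0 := by
      refine hvK.symm.trans ?_
      rw [h0, LinearMap.comp_zero, map_zero]
    rw [hz, map_zero, smul_zero, smul_zero]
  obtain ⟨q, hq⟩ : ∃ q, v q ≠ 0 := by
    by_contra h0
    push Not at h0
    exact hv0 (LinearMap.ext h0)
  have smulK : ∀ (a a' : Γ(pullback π (Seesaw.specAlg k K), ⊤))
      (b b' : Γ((Scheme.Modules.pullback (pullback.fst π (Seesaw.specAlg k K))).obj (Coh.structureModule Z), ⊤)),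
      a = a' → b = b' → a • b = a' • b' := fun _ _ _ _ ha hb => by rw [ha, hb]
  have smul₁ : ∀ (a a' : Γ(Z, ⊤)) (b b' : Γ((Scheme.Modules.pullback (𝟙 Z)).obj (Coh.structureModule Z), ⊤)),
      a = a' → b = b' → a • b = a' • b' := fun _ _ _ _ ha hb => by rw [ha, hb]
  have hline : ∀ g : Q →ₗ[k] k, g = LinearMap.mulLeft k (g q / v q) ∘ₗ v := fun g => by
    obtain ⟨r, hr⟩ := hfr.exists_coord (le_refl ⊤) (eK (Algebra.linearMap k K ∘ₗ g))
    obtain ⟨c, hc₀⟩ := (Seesaw.toGlobal_bijective _ h).2 r
    have hg : Algebra.linearMap k K ∘ₗ g = LinearMap.mulLeft k c ∘ₗ Algebra.linearMap k K ∘ₗ v :=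
      eK.injective ((hr.trans (smulK _ _ _ _ hc₀.symm ((AModX.res_self _).trans hvK.symm))).trans (hK1 c _).symm)
    refine LinearMap.ext fun z => (algebraMap k K).injective ?_
    have hz : algebraMap k K (g z) = c * algebraMap k K (v z) := LinearMap.congr_fun hg z
    have hc : algebraMap k K (g q) = c * algebraMap k K (v q) := LinearMap.congr_fun hg q
    have hvq : algebraMap k K (v q) ≠ 0 := fun h0 => hq ((algebraMap k K).injective (by rw [h0, map_zero]))
    show _ = algebraMap k K (g q / v q * v z)
    rw [map_mul, map_div₀, hz, hc, mul_div_assoc, div_self hvq, mul_one]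
  refine PicFRel.UnivH0.bijective_appTop_of_toGlobal _ ⟨fun a b hab => ?_, fun r => ?_⟩
  · have e' : LinearMap.mulLeft k a ∘ₗ v = LinearMap.mulLeft k b ∘ₗ v :=
      e₁.injective (by rw [he1, he1, hab])
    exact mul_right_cancel₀ hq (LinearMap.congr_fun e' q)
  · obtain ⟨g, hg⟩ := e₁.surjective
      ((show Γ(Z, ⊤) from r) • (show Γ((Scheme.Modules.pullback (𝟙 Z)).obj (Coh.structureModule Z), ⊤) from
        pullElt (𝟙 Z) one))
    refine ⟨g q / v q, hfr₁.coord_unique (le_refl ⊤) ?_⟩
    refine (smul₁ _ _ _ _ rfl ((AModX.res_self _).trans hv1.symm)).trans ?_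
    refine ((he1 _ v).symm.trans ((congrArg e₁ (hline g).symm).trans hg)).trans ?_
    exact smul₁ _ _ _ _ rfl (AModX.res_self _).symm

/-- Triviality descends along a field extension. -/
theorem triv_of_ext {L : Z.Modules} (hL : PicF.IsInvertible L)
    (h0 : Function.Bijective (pullback.snd π (Seesaw.specAlg k K)).appTop)
    (hT : Triv ((Scheme.Modules.pullback (pullback.fst π (Seesaw.specAlg k K))).obj L)) : Triv L := by
  obtain ⟨Q, -, e, hQ⟩ := Seesaw.exists_rep (A := k) L hL
  obtain ⟨eK, -, hK2⟩ := hQ K _ _ _ (IsPullback.of_hasPullback π _)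
  have hF := Seesaw.isField_Γ _ h0
  haveI := hF.toField.toNontrivial
  obtain ⟨s, hs⟩ := hT.exists_frame
  have hg : eK.symm s ≠ 0 := fun h => by
    have hs0 : s = 0 := by rw [← eK.apply_symm_apply s, h, map_zero]
    exact zero_ne_one (hs.coord_unique le_rfl (r := 0) (r' := 1) (by simp [hs0]))
  obtain ⟨q, hq⟩ : ∃ q, eK.symm s q ≠ 0 := by
    by_contra h
    push Not at h
    exact hg (LinearMap.ext h)
  have hq0 : q ≠ 0 := fun h => hq (by rw [h, map_zero])
  obtain ⟨f, hf⟩ : ∃ f : Module.Dual k Q, f q ≠ 0 := by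
    by_contra h
    push Not at h
    exact hq0 ((Module.forall_dual_apply_eq_zero_iff k q).1 h)
  have hfr : IsFrame (show Γ((Scheme.Modules.pullback (pullback.fst π (Seesaw.specAlg k K))).obj L, ⊤)
      from pullElt (pullback.fst π (Seesaw.specAlg k K)) (e f)) := by
    refine TrivBasic.isFrame_of_ne_zero hT hF fun h => hf ?_
    have h' := eK.injective (((hK2 f).trans h).trans (map_zero eK).symm)
    exact (algebraMap k K).injective ((LinearMap.congr_fun h' q).trans (map_zero _).symm)
  haveI : Surjective (Seesaw.specAlg k K) := ⟨fun x =>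
    ⟨IsLocalRing.closedPoint K, @Subsingleton.elim _
      (inferInstanceAs (Subsingleton (PrimeSpectrum k))) _ x⟩⟩
  refine TrivBasic.triv_of_frame (e := AModX.res L (le_refl ⊤) (e f))
    (TrivBasic.isFrame_res_of_le_locus fun z _ => ?_)
  obtain ⟨w, rfl⟩ := (pullback.fst π (Seesaw.specAlg k K)).surjective z
  exact mem_locus_of_pullElt hL _ _ hfr w

end Field

variable {X Y : Scheme.{u}} (f : X ⟶ Y) [IsProper f] [Flat f] {y : Y} (K : Type u) [Field K]
  (k : Spec (CommRingCat.of K) ⟶ Y) (hk : k (IsLocalRing.closedPoint K) = y)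

include hk in
/-- Constant functions over one field point give constant functions over every one. -/
theorem fieldH0_of_point (h : Function.Bijective (pullback.snd f k).appTop) : SeesawGlobal.FieldH0 f y := by
  subst hk
  refine PicFRel.UnivH0.fieldH0_of_fibre f _ ?_
  let φ := Scheme.descResidueField (Scheme.stalkClosedPointTo k)
  let a := Y.fromSpecResidueField (k (IsLocalRing.closedPoint K))
  let k₀ := Y.residueField (k (IsLocalRing.closedPoint K))
  letI : Algebra k₀ K := φ.hom.toAlgebra
  letI : (pullback f a).Over (Spec (CommRingCat.of k₀)) := ⟨pullback.snd f a⟩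
  haveI : IsProper (pullback f a ↘ Spec (CommRingCat.of k₀)) := inferInstanceAs (IsProper (pullback.snd f a))
  haveI : Flat (pullback f a ↘ Spec (CommRingCat.of k₀)) := inferInstanceAs (Flat (pullback.snd f a))
  refine bijective_of_ext (k := k₀) (Z := pullback f a) K ?_
  have hfac : Seesaw.specAlg k₀ K ≫ a = k := Scheme.descResidueField_stalkClosedPointTo_fromSpecResidueField K Y k
  let e := pullbackLeftPullbackSndIso f a (Seesaw.specAlg k₀ K) ≪≫ pullback.congrHom rfl hfac
  have he : pullback.snd (pullback.snd f a) (Seesaw.specAlg k₀ K) = e.hom ≫ pullback.snd f k := by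
    simp [e, pullback.congrHom, pullback.map, pullback.lift_snd]
  show Function.Bijective (pullback.snd (pullback.snd f a) (Seesaw.specAlg k₀ K)).appTop
  rw [he, Scheme.Hom.comp_appTop]
  exact (SeesawGlobal.bijective_appTop_iso e).comp h

include hk in
/-- Triviality over one field point gives triviality over every one. -/
theorem fieldTriv_of_point' {L : X.Modules} (hL : PicF.IsInvertible L)
    (h0 : Function.Bijective (pullback.snd f k).appTop)
    (hT : Triv ((Scheme.Modules.pullback (pullback.fst f k)).obj L)) : SeesawGlobal.FieldTriv f L y := by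
  subst hk
  rw [SeesawGlobal.fieldTriv_iff_residueField]
  let φ := Scheme.descResidueField (Scheme.stalkClosedPointTo k)
  let a := Y.fromSpecResidueField (k (IsLocalRing.closedPoint K))
  let k₀ := Y.residueField (k (IsLocalRing.closedPoint K))
  letI : Algebra k₀ K := φ.hom.toAlgebra
  letI : (pullback f a).Over (Spec (CommRingCat.of k₀)) := ⟨pullback.snd f a⟩
  haveI : IsProper (pullback f a ↘ Spec (CommRingCat.of k₀)) := inferInstanceAs (IsProper (pullback.snd f a))
  haveI : Flat (pullback f a ↘ Spec (CommRingCat.of k₀)) := inferInstanceAs (Flat (pullback.snd f a))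
  have hfac : Seesaw.specAlg k₀ K ≫ a = k := Scheme.descResidueField_stalkClosedPointTo_fromSpecResidueField K Y k
  let e := pullbackLeftPullbackSndIso f a (Seesaw.specAlg k₀ K) ≪≫ pullback.congrHom rfl hfac
  refine triv_of_ext (k := k₀) (Z := pullback f a) K (PicClLib.isInvertible_pullback _ hL) ?_ ?_
  · have he : pullback.snd (pullback.snd f a) (Seesaw.specAlg k₀ K) = e.hom ≫ pullback.snd f k := by
      simp [e, pullback.congrHom, pullback.map, pullback.lift_snd]
    show Function.Bijective (pullback.snd (pullback.snd f a) (Seesaw.specAlg k₀ K)).appTop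
    rw [he, Scheme.Hom.comp_appTop]
    exact (SeesawGlobal.bijective_appTop_iso e).comp h0
  · exact (triv_comp_iff _ _).2 (SeesawGlobal.triv_of_factor e.hom (by
      simp [e, pullback.congrHom, pullback.map, pullback.lift_fst]
      rfl) hT)

end Groth.Agent.AbSchX.CubeBase
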