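import Groth.Agent.AbSchX.CubeBase.Approx
import Groth.Agent.AbSchX.CubeBase.AbCube

/-! The theorem of the cube for an abelian scheme over an arbitrary base. -/

set_option autoImplicit false
set_option linter.style.haveILetI false
set_option backward.isDefEq.respectTransparency.types false
universe u

open CategoryTheory CategoryTheory.Limits AlgebraicGeometry MonoidalCategory CartesianMonoidalCategory MonObj
  TopologicalSpace Opposite

namespace Groth.Agent.AbSchX.CubeBase

open Groth.Agent.InvX Groth.Agent.H23 Groth.Agent.H23.TrivBasic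
open scoped Groth.Agent.H23.PicMul

/-- Over an affine base: near every point there are a frame and constant functions. -/
theorem exists_local_affine {R : CommRingCat.{u}} {X Y : Scheme.{u}} (pX : X ⟶ Spec R) (pY : Y ⟶ Spec R)
    [IsProper pX] [IsProper pY] [Flat pX] [Flat pY] [LocallyOfFinitePresentation pX]
    [LocallyOfFinitePresentation pY] (x : Spec R ⟶ X) (hx : x ≫ pX = 𝟙 _) (y : Spec R ⟶ Y) (hy : y ≫ pY = 𝟙 _)
    (L : (pullback pX pY).Modules) (hL : PicF.IsInvertible L)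
    (h₁ : Triv ((Scheme.Modules.pullback (slice₁ pX pY x hx)).obj L))
    (h₂ : Triv ((Scheme.Modules.pullback (slice₂ pX pY y hy)).obj L))
    (s : Spec R) (hX0 : SeesawGlobal.FieldH0 pX s) (hY0 : SeesawGlobal.FieldH0 pY s)
    (hT : SeesawGlobal.FieldTriv (prodHom pX pY) L s) :
    ∃ V : (Spec R).Opens, s ∈ V ∧ (∃ e : Γ(L, prodHom pX pY ⁻¹ᵁ V), IsFrame e) ∧
      ∀ W : (Spec R).Opens, IsAffineOpen W → W ≤ V → Function.Bijective ((prodHom pX pY).app W) :=
  haveI : ∀ {i j : (Finset R)ᵒᵖ} (f : i ⟶ j), IsAffineHom ((ConsPropLib.NoethApprox.diagram R).map f) :=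
    fun f => ConsPropLib.NoethApprox.isAffineHom_map R f
  haveI : @IsProper X (ConsPropLib.NoethApprox.cone R).pt pX := ‹IsProper pX›
  haveI : @IsProper Y (ConsPropLib.NoethApprox.cone R).pt pY := ‹IsProper pY›
  haveI : @Flat X (ConsPropLib.NoethApprox.cone R).pt pX := ‹Flat pX›
  haveI : @Flat Y (ConsPropLib.NoethApprox.cone R).pt pY := ‹Flat pY›
  haveI : @LocallyOfFinitePresentation X (ConsPropLib.NoethApprox.cone R).pt pX := ‹LocallyOfFinitePresentation pX›
  haveI : @LocallyOfFinitePresentation Y (ConsPropLib.NoethApprox.cone R).pt pY := ‹LocallyOfFinitePresentation pY›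
  exists_local (D := ConsPropLib.NoethApprox.diagram R) (c := ConsPropLib.NoethApprox.cone R)
    (ConsPropLib.NoethApprox.isLimit R) (fun _ => inferInstance) hx hy (fun _ => inferInstance)
    L hL h₁ h₂ s hX0 hY0 hT

variable {S X Y : Scheme.{u}} (pX : X ⟶ S) (pY : Y ⟶ S)

/-- Near every point of any base: a frame, and constant functions. -/
theorem exists_local_any [IsProper pX] [IsProper pY] [Flat pX] [Flat pY] [LocallyOfFinitePresentation pX]
    [LocallyOfFinitePresentation pY] (x : S ⟶ X) (hx : x ≫ pX = 𝟙 S) (y : S ⟶ Y) (hy : y ≫ pY = 𝟙 S)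
    (L : (pullback pX pY).Modules) (hL : PicF.IsInvertible L)
    (h₁ : Triv ((Scheme.Modules.pullback (slice₁ pX pY x hx)).obj L))
    (h₂ : Triv ((Scheme.Modules.pullback (slice₂ pX pY y hy)).obj L))
    (s : S) (hX0 : SeesawGlobal.FieldH0 pX s) (hY0 : SeesawGlobal.FieldH0 pY s)
    (hT : SeesawGlobal.FieldTriv (prodHom pX pY) L s) :
    ∃ V : S.Opens, s ∈ V ∧ (∃ e : Γ(L, prodHom pX pY ⁻¹ᵁ V), IsFrame e) ∧
      ∀ W : S.Opens, IsAffineOpen W → W ≤ V → Function.Bijective ((prodHom pX pY).app W) := by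
  obtain ⟨_, ⟨U, hU, rfl⟩, hsU, -⟩ := S.isBasis_affineOpens.exists_subset_of_mem_open (Set.mem_univ s) isOpen_univ
  have hU' : IsAffineOpen U := hU
  let q : Spec Γ(S, U) ⟶ S := hU'.fromSpec
  haveI : IsOpenImmersion q := inferInstanceAs (IsOpenImmersion hU'.fromSpec)
  obtain ⟨t, rfl⟩ : s ∈ Set.range q := by
    show s ∈ Set.range hU'.fromSpec
    rwa [hU'.range_fromSpec]
  let pX' := pullback.snd pX q
  let pY' := pullback.snd pY q
  haveI : IsProper pX' := MorphismProperty.pullback_snd _ _ inferInstance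
  haveI : IsProper pY' := MorphismProperty.pullback_snd _ _ inferInstance
  haveI : Flat pX' := MorphismProperty.pullback_snd _ _ inferInstance
  haveI : Flat pY' := MorphismProperty.pullback_snd _ _ inferInstance
  haveI : LocallyOfFinitePresentation pX' := MorphismProperty.pullback_snd _ _ inferInstance
  haveI : LocallyOfFinitePresentation pY' := MorphismProperty.pullback_snd _ _ inferInstance
  have hc : ∀ {Z : Scheme.{u}} (π : Z ⟶ S), SeesawGlobal.FieldH0 π (q t) →
      SeesawGlobal.FieldH0 (pullback.snd π q) t := by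
    intro Z π hπ K _ k hk
    rw [← pullbackLeftPullbackSndIso_hom_snd π q k, Scheme.Hom.comp_appTop]
    exact (SeesawGlobal.bijective_appTop_iso (pullbackLeftPullbackSndIso π q k)).comp
      (hπ K (k ≫ q) (congrArg q hk))
  let L' := (Scheme.Modules.pullback (prodMap pX pY q)).obj L
  have hT' : SeesawGlobal.FieldTriv (prodHom pX' pY') L' t := fun K _ k hk =>
    (TrivBasic.triv_comp_iff _ _).2 (SeesawGlobal.triv_of_factor
      (pullback.lift (pullback.fst _ k ≫ prodMap pX pY q) (pullback.snd _ k) (by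
        rw [Category.assoc, (isPullback_prodMap pX pY q).w, pullback.condition_assoc]) :
        pullback (prodHom pX' pY') k ⟶ pullback (prodHom pX pY) (k ≫ q))
      (pullback.lift_fst _ _ _) (hT K (k ≫ q) (congrArg q hk)))
  obtain ⟨V, htV, ⟨e, he⟩, hV⟩ := exists_local_affine pX' pY' (sect pX q x hx) (sect_snd pX q x hx)
    (sect pY q y hy) (sect_snd pY q y hy) L' (PicClLib.isInvertible_pullback _ hL)
    ((TrivBasic.triv_comp_iff _ _).2 ((triv_congr (slice₁_prodMap pX pY q x hx)).2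
      (SeesawGlobal.triv_of_factor (pullback.fst pY q) rfl h₁)))
    ((TrivBasic.triv_comp_iff _ _).2 ((triv_congr (slice₂_prodMap pX pY q y hy)).2
      (SeesawGlobal.triv_of_factor (pullback.fst pX q) rfl h₂)))
    t (hc pX hX0) (hc pY hY0) hT'
  have hsq := isPullback_prodMap pX pY q
  refine ⟨q ''ᵁ V, ⟨t, htV, rfl⟩, ?_, fun W hW hWV => ?_⟩
  · let P' := prodHom pX' pY' ⁻¹ᵁ V
    haveI : IsOpenImmersion (prodMap pX pY q) := MorphismProperty.of_isPullback hsq.flip inferInstance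
    obtain ⟨φ⟩ := nonempty_iso_of_isFrame he
    have hT₁ : Triv ((Scheme.Modules.pullback (P'.ι ≫ prodMap pX pY q)).obj L) :=
      (triv_comp_iff _ _).1 (Triv.of_iso ((Scheme.Modules.restrictFunctorIsoPullback P'.ι).app _) ⟨φ⟩)
    obtain ⟨e', he'⟩ := SeesawGlobal.exists_frame_of_triv _ hT₁
    have hle : prodHom pX pY ⁻¹ᵁ (q ''ᵁ V) ≤ (P'.ι ≫ prodMap pX pY q).opensRange := by
      intro z hz
      obtain ⟨v, hv, hvz⟩ := hz
      obtain ⟨w, hw₁, hw₂⟩ := Scheme.Pullback.exists_preimage_pullback (f := prodHom pX pY) (g := q) z v hvz.symm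
      refine ⟨⟨hsq.isoPullback.inv w, ?_⟩, ?_⟩
      · show prodHom pX' pY' (hsq.isoPullback.inv w) ∈ V
        rw [← Scheme.Hom.comp_apply, hsq.isoPullback_inv_snd, hw₂]
        exact hv
      · show prodMap pX pY q (hsq.isoPullback.inv w) = z
        rw [← Scheme.Hom.comp_apply, hsq.isoPullback_inv_fst, hw₁]
    exact ⟨_, he'.res hle⟩
  · have hr : W ≤ q.opensRange := hWV.trans (q.image_le_opensRange V)
    have hW' : IsAffineOpen (q ⁻¹ᵁ W) := hW.preimage_of_isOpenImmersion q hr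
    have hWV' : q ⁻¹ᵁ W ≤ V := (q.preimage_mono hWV).trans (q.preimage_image_eq V).le
    have hbij := hV _ hW' hWV'
    haveI : IsOpenImmersion (prodMap pX pY q) := MorphismProperty.of_isPullback hsq.flip inferInstance
    have hr' : prodHom pX pY ⁻¹ᵁ W ≤ (prodMap pX pY q).opensRange := by
      intro z hz
      obtain ⟨v, hv⟩ := hr hz
      obtain ⟨w, hw₁, -⟩ := Scheme.Pullback.exists_preimage_pullback (f := prodHom pX pY) (g := q) z v hv.symm
      exact ⟨hsq.isoPullback.inv w, by rw [← Scheme.Hom.comp_apply, hsq.isoPullback_inv_fst, hw₁]⟩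
    haveI hq : IsIso (q.app W) := Scheme.Hom.isIso_app q W hr
    haveI : IsIso ((prodMap pX pY q).app (prodHom pX pY ⁻¹ᵁ W)) := Scheme.Hom.isIso_app _ _ hr'
    have hcomp := Scheme.Hom.congr_app hsq.w W
    rw [Scheme.Hom.comp_app (prodMap pX pY q) (prodHom pX pY),
      Scheme.Hom.comp_app (prodHom (pullback.snd pX q) (pullback.snd pY q)) q] at hcomp
    have h1 : IsIso ((prodHom pX' pY').app (q ⁻¹ᵁ W)) := (ConcreteCategory.isIso_iff_bijective _).2 hbij
    haveI : IsIso ((prodHom (pullback.snd pX q) (pullback.snd pY q)).app (q ⁻¹ᵁ W)) := h1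
    have h2 : IsIso ((prodHom pX pY).app W ≫ (prodMap pX pY q).app (prodHom pX pY ⁻¹ᵁ W)) := by
      rw [hcomp]
      exact @IsIso.comp_isIso _ _ _ _ _ _ _ (@IsIso.comp_isIso _ _ _ _ _ _ _ hq h1)
        (Functor.map_isIso _ _)
    haveI := h2
    haveI : IsIso ((prodHom pX pY).app W) :=
      IsIso.of_isIso_comp_right ((prodHom pX pY).app W) ((prodMap pX pY q).app (prodHom pX pY ⁻¹ᵁ W))
    exact ConcreteCategory.bijective_of_isIso ((prodHom pX pY).app W)

/-- A module trivial on both slices and on the fibres is trivial, over any base. -/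
theorem triv_prod_any [IsProper pX] [IsProper pY] [Flat pX] [Flat pY] [LocallyOfFinitePresentation pX]
    [LocallyOfFinitePresentation pY] (x : S ⟶ X) (hx : x ≫ pX = 𝟙 S) (y : S ⟶ Y) (hy : y ≫ pY = 𝟙 S)
    (L : (pullback pX pY).Modules) (hL : PicF.IsInvertible L)
    (h₁ : Triv ((Scheme.Modules.pullback (slice₁ pX pY x hx)).obj L))
    (h₂ : Triv ((Scheme.Modules.pullback (slice₂ pX pY y hy)).obj L))
    (hX0 : ∀ s, SeesawGlobal.FieldH0 pX s) (hY0 : ∀ s, SeesawGlobal.FieldH0 pY s)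
    (hT : ∀ s, SeesawGlobal.FieldTriv (prodHom pX pY) L s) : Triv L := by
  choose V hV hF hbij using fun s => exists_local_any pX pY x hx y hy L hL h₁ h₂ s (hX0 s) (hY0 s) (hT s)
  have h0 : ∀ W : S.Opens, Function.Bijective ((prodHom pX pY).app W) := fun W => by
    refine PicFRel.UnivH0.bijective_app_of_isBasis _ (Bs := {U : S.Opens | IsAffineOpen U ∧ ∃ s, U ≤ V s}) ?_
      (fun U ⟨hU, s, hUs⟩ => hbij s U hU hUs) W
    refine Opens.isBasis_iff_nbhd.2 fun {U z} hz => ?_
    obtain ⟨_, ⟨O, hO, rfl⟩, hzO, hle⟩ := S.isBasis_affineOpens.exists_subset_of_mem_open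
      (show z ∈ (U ⊓ V z : S.Opens) from ⟨hz, hV z⟩) (U ⊓ V z).isOpen
    exact ⟨O, ⟨hO, z, fun w hw => (hle hw).2⟩, hzO, fun w hw => (hle hw).1⟩
  refine SeesawGlobal.triv_of_section (prodHom pX pY) h0 (y ≫ slice₁ pX pY x hx) ?_
    (SeesawGlobal.triv_of_factor y rfl h₁) fun s => ⟨V s, hV s, hF s⟩
  rw [Category.assoc, prodHom, slice₁, pullback.lift_fst_assoc, Category.assoc, hx, Category.comp_id, hy]

variable {S : Scheme.{u}} {X : Over S} {L : X.left.Modules} (hL : PicF.IsInvertible L) [GrpObj X]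

/-- The universal combination is trivial over any base. -/
theorem comb_universal_any [IsProper X.hom] [Flat X.hom] [LocallyOfFinitePresentation X.hom]
    [GeometricallyIntegral X.hom] :
    comb hL (fst X (X ⊗ X)) (snd X (X ⊗ X) ≫ fst X X) (snd X (X ⊗ X) ≫ snd X X) = 1 := by
  let P := X ⊗ (X ⊗ X)
  obtain ⟨M, hM, hMi⟩ := isInvertibleCl_comb hL (fst X (X ⊗ X)) (snd X (X ⊗ X) ≫ fst X X) (snd X (X ⊗ X) ≫ snd X X)
  have slice : ∀ {T : Over S} (φ : T ⟶ P),
      (φ ≫ fst X (X ⊗ X) = 1 ∨ φ ≫ snd X (X ⊗ X) ≫ fst X X = 1 ∨ φ ≫ snd X (X ⊗ X) ≫ snd X X = 1) →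
        TrivBasic.Triv ((Scheme.Modules.pullback φ.left).obj M) := by
    intro T φ H
    refine (PicGrp.cl_eq_cl_iff _ _).1 ?_
    show PicF.pullCl φ.left (PicF.cl M) = 1
    rw [hM]
    exact congrArg Units.val ((pull_comb hL φ _ _ _).trans (comb_eq_one_of_one hL H))
  haveI : IsProper (X ⊗ X).hom := inferInstanceAs (IsProper (pullback.fst X.hom X.hom ≫ X.hom))
  haveI : Flat (X ⊗ X).hom := inferInstanceAs (Flat (pullback.fst X.hom X.hom ≫ X.hom))
  haveI : LocallyOfFinitePresentation (X ⊗ X).hom :=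
    inferInstanceAs (LocallyOfFinitePresentation (pullback.fst X.hom X.hom ≫ X.hom))
  have hX0 : ∀ s, SeesawGlobal.FieldH0 X.hom s := fun s =>
    PicFRel.UnivH0.fieldH0_of_fibre X.hom s (RigidApply.constFibres_of_geometricallyIntegral X.hom s)
  have hY0 : ∀ s, SeesawGlobal.FieldH0 (X ⊗ X).hom s := fun s => fieldH0_prod X.hom X.hom (hX0 s) (hX0 s)
  have h := triv_prod_any X.hom (X ⊗ X).hom η[X].left (Over.w η[X]) (lift η[X] η[X]).left (Over.w (lift η[X] η[X]))
    M hMi ?_ ?_ hX0 hY0 fun s K _ k hk => ?_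
  · exact Units.ext (hM.symm.trans ((PicGrp.cl_eq_cl_iff _ _).2 h))
  · exact slice (lift (toUnit (X ⊗ X) ≫ η[X]) (𝟙 (X ⊗ X))) (Or.inl (by rw [lift_fst]; exact (Hom.one_def).symm))
  · exact slice (lift (𝟙 X) (toUnit X ≫ lift η[X] η[X])) (Or.inr (Or.inl (by
      rw [lift_snd_assoc, Category.assoc, lift_fst]; exact (Hom.one_def).symm)))
  · refine (PicGrp.cl_eq_cl_iff _ _).1 ?_
    show PicMul.pullHom (pullback.fst P.hom k) (PicF.cl M) = 1
    rw [hM]
    exact pullHom_comb_fibre hL _ _ _ K k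

/-- The theorem of the cube over any base. -/
theorem comb_eq_one_any [IsProper X.hom] [Flat X.hom] [LocallyOfFinitePresentation X.hom]
    [GeometricallyIntegral X.hom] {T : Over S} (f g h : T ⟶ X) : comb hL f g h = 1 := by
  have e := pull_comb hL (lift f (lift g h)) (fst X (X ⊗ X)) (snd X (X ⊗ X) ≫ fst X X) (snd X (X ⊗ X) ≫ snd X X)
  simp only [comb_universal_any, map_one, lift_fst, lift_snd_assoc, lift_snd] at e
  exact e.symm

end Groth.Agent.AbSchX.CubeBase
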