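import Groth.Agent.AbSchX.CubeBase.Artin
import Groth.Agent.H23.CubeField

/-! Modules on a product of two flat proper schemes over a locally Noetherian base, trivial on both slices
and on the fibres, are trivial. -/

set_option autoImplicit false
set_option linter.style.haveILetI false
universe u

open CategoryTheory Limits AlgebraicGeometry MonoidalCategory CartesianMonoidalCategory TopologicalSpace Opposite

namespace Groth.Agent.AbSchX.CubeBase

open Groth.Agent.H23 Groth.Agent.H23.TrivBasic

variable {S X Y : Scheme.{u}} (pX : X ⟶ S) (pY : Y ⟶ S)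

/-- A product has constant functions on a fibre if both factors do. -/
theorem fieldH0_prod [IsProper pX] {y : S} (hX : SeesawGlobal.FieldH0 pX y)
    (hY : SeesawGlobal.FieldH0 pY y) : SeesawGlobal.FieldH0 (prodHom pX pY) y := by
  intro K _ k hk
  let X₀ : Over (Spec (CommRingCat.of K)) := Over.mk (pullback.snd pX k)
  let Y₀ : Over (Spec (CommRingCat.of K)) := Over.mk (pullback.snd pY k)
  haveI : IsProper X₀.hom := inferInstanceAs (IsProper (pullback.snd pX k))
  have h : Function.Bijective (prodHom (pullback.snd pX k) (pullback.snd pY k)).appTop :=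
    CubeField.bijective_appTop_prod X₀ Y₀ (hX K k hk) (hY K k hk)
  rw [← (isPullback_prodMap pX pY k).isoPullback_inv_snd, Scheme.Hom.comp_appTop]
  exact (SeesawGlobal.bijective_appTop_iso (isPullback_prodMap pX pY k).isoPullback.symm).comp h

/-- Near a point over which the module is trivial it has frames. -/
theorem exists_frame_near [IsLocallyNoetherian S] [IsProper pX] [IsProper pY] [Flat pX] [Flat pY]
    (x : S ⟶ X) (hx : x ≫ pX = 𝟙 S) (y : S ⟶ Y) (hy : y ≫ pY = 𝟙 S)
    (L : (pullback pX pY).Modules) (hL : PicF.IsInvertible L)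
    (h₁ : Triv ((Scheme.Modules.pullback (slice₁ pX pY x hx)).obj L))
    (h₂ : Triv ((Scheme.Modules.pullback (slice₂ pX pY y hy)).obj L))
    (s : S) (hX0 : SeesawGlobal.FieldH0 pX s) (hY0 : SeesawGlobal.FieldH0 pY s)
    (hT : SeesawGlobal.FieldTriv (prodHom pX pY) L s) :
    ∃ V : S.Opens, s ∈ V ∧ ∃ e : Γ(L, prodHom pX pY ⁻¹ᵁ V), InvX.IsFrame e := by
  let f := prodHom pX pY
  haveI : Flat f := inferInstanceAs (Flat (pullback.fst pX pY ≫ pX))
  haveI : IsProper f := inferInstanceAs (IsProper (pullback.fst pX pY ≫ pX))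
  have hP0 : SeesawGlobal.FieldH0 f s := fieldH0_prod pX pY hX0 hY0
  obtain ⟨A, _, _, g, _, p, rfl⟩ := SeesawGlobal.exists_chart s
  haveI : p.asIdeal.IsPrime := p.isPrime
  refine SeesawGlobal.exists_frame_of_thick f hL g p hP0 hT fun n => ?_
  cases n with
  | zero =>
    haveI : Subsingleton (SeesawMod.Thick p.asIdeal 0) := by
      refine Ideal.Quotient.subsingleton_iff.2 ?_
      rw [pow_zero, Ideal.one_eq_top]
    let q₀ := Seesaw.specAlg A (SeesawMod.Thick p.asIdeal 0) ≫ g
    haveI : IsEmpty ↥(pullback f q₀) :=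
      haveI : IsEmpty ↥(Spec (CommRingCat.of (SeesawMod.Thick p.asIdeal 0))) :=
        inferInstanceAs (IsEmpty (PrimeSpectrum _))
      Function.isEmpty (pullback.snd f q₀)
    refine ⟨?_, ?_⟩
    · refine TrivBasic.triv_of_frame (e := 0) (TrivBasic.isFrame_of_germwise fun z _ => ?_)
      exact isEmptyElim (α := ↥(pullback f q₀)) z
    · haveI : Subsingleton Γ(Spec (CommRingCat.of (SeesawMod.Thick p.asIdeal 0)), ⊤) :=
        (Scheme.ΓSpecIso _).commRingCatIsoToRingEquiv.toEquiv.subsingleton
      exact Function.injective_of_subsingleton _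
  | succ m =>
    let R := Localization.AtPrime p.asIdeal
    let B := SeesawMod.Thick p.asIdeal (m + 1)
    haveI : IsNoetherianRing R := IsLocalization.isNoetherianRing p.asIdeal.primeCompl R inferInstance
    haveI : Nontrivial B := Ideal.Quotient.nontrivial_iff.2 fun h =>
      (IsLocalRing.maximalIdeal.isMaximal R).ne_top
        (top_le_iff.1 (h.ge.trans (Ideal.pow_le_self (Nat.succ_ne_zero m))))
    haveI : IsLocalRing B := IsLocalRing.of_surjective' (Ideal.Quotient.mk _) Ideal.Quotient.mk_surjective
    haveI : IsNoetherianRing B :=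
      isNoetherianRing_of_surjective R B (Ideal.Quotient.mk _) Ideal.Quotient.mk_surjective
    have hmm : IsLocalRing.maximalIdeal B = (IsLocalRing.maximalIdeal R).map (Ideal.Quotient.mk _) :=
      (IsLocalRing.map_maximalIdeal_of_surjective _ Ideal.Quotient.mk_surjective).symm
    haveI : IsArtinianRing B := (isArtinianRing_iff_isNilpotent_maximalIdeal B).2 ⟨m + 1, by
      rw [hmm, ← Ideal.map_pow]
      exact Ideal.map_quotient_self _⟩
    have hcm : Ideal.comap (Ideal.Quotient.mk (IsLocalRing.maximalIdeal R ^ (m + 1))) (IsLocalRing.maximalIdeal B) =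
        IsLocalRing.maximalIdeal R := IsLocalRing.eq_maximalIdeal
      (Ideal.comap_isMaximal_of_surjective _ Ideal.Quotient.mk_surjective)
    let q : Spec (CommRingCat.of B) ⟶ S := Seesaw.specAlg A B ≫ g
    have hpt : ∀ z : ↥(Spec (CommRingCat.of B)), q z = g p := fun z => by
      show g (Spec.map _ z) = g p
      congr 1
      refine PrimeSpectrum.ext ?_
      show Ideal.comap (algebraMap A B) z.asIdeal = p.asIdeal
      rw [IsLocalRing.eq_maximalIdeal (z.isPrime.isMaximal'),
        IsScalarTower.algebraMap_eq A R B, ← Ideal.comap_comap,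
        show algebraMap R B = Ideal.Quotient.mk _ from rfl, hcm]
      exact Localization.AtPrime.under_maximalIdeal
    have hc : ∀ {Z : Scheme.{u}} (π : Z ⟶ S), SeesawGlobal.FieldH0 π (g p) → ConstFib (pullback.snd π q) := by
      intro Z π hπ K _ k
      rw [← pullbackLeftPullbackSndIso_hom_snd π q k, Scheme.Hom.comp_appTop]
      exact (SeesawGlobal.bijective_appTop_iso (pullbackLeftPullbackSndIso π q k)).comp
        (hπ K (k ≫ q) (hpt _))
    refine ⟨?_, ?_⟩
    · let M := (Scheme.Modules.pullback (prodMap pX pY q)).obj L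
      have hM : Triv M := by
        refine triv_artin (pullback.snd pX q) (pullback.snd pY q) (hc pX hX0) (hc pY hY0)
          (sect pX q x hx) (sect_snd pX q x hx) (sect pY q y hy) (sect_snd pY q y hy) M
          (PicClLib.isInvertible_pullback _ hL) (fun K _ k => ?_) ?_ ?_
        · refine (TrivBasic.triv_comp_iff _ _).2 (SeesawGlobal.triv_of_factor
            (pullback.lift (pullback.fst _ k ≫ prodMap pX pY q) (pullback.snd _ k) (by
              rw [Category.assoc, (isPullback_prodMap pX pY q).w, pullback.condition_assoc]) :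
              pullback (prodHom (pullback.snd pX q) (pullback.snd pY q)) k ⟶ pullback f (k ≫ q))
            (pullback.lift_fst _ _ _) (hT K (k ≫ q) (hpt _)))
        · refine (TrivBasic.triv_comp_iff _ _).2 ?_
          rw [slice₁_prodMap]
          exact SeesawGlobal.triv_of_factor (pullback.fst pY q) rfl h₁
        · refine (TrivBasic.triv_comp_iff _ _).2 ?_
          rw [slice₂_prodMap]
          exact SeesawGlobal.triv_of_factor (pullback.fst pX q) rfl h₂
      exact SeesawGlobal.triv_of_factor (isPullback_prodMap pX pY q).isoPullback.inv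
        (isPullback_prodMap pX pY q).isoPullback_inv_fst hM
    · have h := (scal_bijective (pullback.snd f q) (hc f hP0)).1
      intro a b hab
      obtain ⟨a, rfl⟩ := (ConcreteCategory.bijective_of_isIso (Scheme.ΓSpecIso (CommRingCat.of B)).inv).2 a
      obtain ⟨b, rfl⟩ := (ConcreteCategory.bijective_of_isIso (Scheme.ΓSpecIso (CommRingCat.of B)).inv).2 b
      exact congrArg _ (h hab)

/-- Modules trivial on both slices and on all fibres are trivial. -/
theorem triv_prod [IsLocallyNoetherian S] [IsProper pX] [IsProper pY] [Flat pX] [Flat pY]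
    (x : S ⟶ X) (hx : x ≫ pX = 𝟙 S) (y : S ⟶ Y) (hy : y ≫ pY = 𝟙 S)
    (L : (pullback pX pY).Modules) (hL : PicF.IsInvertible L)
    (h₁ : Triv ((Scheme.Modules.pullback (slice₁ pX pY x hx)).obj L))
    (h₂ : Triv ((Scheme.Modules.pullback (slice₂ pX pY y hy)).obj L))
    (hH0 : ∀ V : S.Opens, Function.Bijective ((prodHom pX pY).app V))
    (hX0 : ∀ s, SeesawGlobal.FieldH0 pX s) (hY0 : ∀ s, SeesawGlobal.FieldH0 pY s)
    (hT : ∀ s, SeesawGlobal.FieldTriv (prodHom pX pY) L s) : Triv L := by
  refine SeesawGlobal.triv_of_section (f := prodHom pX pY) hH0 (y ≫ slice₁ pX pY x hx) ?_ ?_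
    fun s => exists_frame_near pX pY x hx y hy L hL h₁ h₂ s (hX0 s) (hY0 s) (hT s)
  · rw [Category.assoc, prodHom, slice₁, pullback.lift_fst_assoc, Category.assoc, hx, Category.comp_id, hy]
  · exact SeesawGlobal.triv_of_factor y rfl h₁

end Groth.Agent.AbSchX.CubeBase
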