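import Groth.Agent.H23.CocycleMod
import Groth.Agent.H23.TrivBasic
import Groth.Agent.LimMor.Lim
import Mathlib.AlgebraicGeometry.AffineTransitionLimit

/-! An invertible module on a limit of separated quasi-compact schemes comes from a stage. -/

set_option autoImplicit false
set_option linter.style.haveILetI false
universe u

open CategoryTheory CategoryTheory.Limits AlgebraicGeometry TopologicalSpace Opposite

namespace Groth.Agent.AbSchX.CubeBase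

open Groth.Agent.AModX Groth.Agent.InvX Groth.Agent.H23

theorem iso_of_frames {X : Scheme.{u}} {M N : X.Modules} {ι : Type u} (U : ι → X.Opens)
    (hcov : ∀ x, ∃ a, x ∈ U a) (e : ∀ a, Γ(M, U a)) (he : ∀ a, IsFrame (e a)) (n : ∀ a, Γ(N, U a))
    (hn : ∀ a, IsFrame (n a))
    (h : ∀ a b, ∃ g : Γ(X, U a ⊓ U b),
      res M (inf_le_left : U a ⊓ U b ≤ U a) (e a) = g • res M inf_le_right (e b) ∧
      res N (inf_le_left : U a ⊓ U b ≤ U a) (n a) = g • res N inf_le_right (n b)) :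
    Nonempty (M ≅ N) := by
  have key : ∀ {P Q : X.Modules} (p : ∀ a, Γ(P, U a)) (q : ∀ a, Γ(Q, U a)), (∀ a, IsFrame (p a)) →
      (∀ a b, ∃ g : Γ(X, U a ⊓ U b),
        res P (inf_le_left : U a ⊓ U b ≤ U a) (p a) = g • res P inf_le_right (p b) ∧
        res Q (inf_le_left : U a ⊓ U b ≤ U a) (q a) = g • res Q inf_le_right (q b)) →
      ∀ (a b : ι) (W : X.Opens) (ha : W ≤ U a) (hb : W ≤ U b) (g : Γ(X, W)),
        res P hb (p b) = g • res P ha (p a) → res Q hb (q b) = g • res Q ha (q a) := by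
    intro P Q p q hp hpq a b W ha hb g hg
    obtain ⟨g₀, h1, h2⟩ := hpq b a
    have h1' := congrArg (res P (le_inf hb ha)) h1
    have h2' := congrArg (res Q (le_inf hb ha)) h2
    rw [res_smul, res_res, res_res] at h1' h2'
    rw [h2', (hp a).coord_unique ha (hg.symm.trans h1')]
  let φ : M ⟶ N := @ofFrames X M N ι U e n hcov he (key e n he h)
  let ψ : N ⟶ M := @ofFrames X N M ι U n e hcov hn
    (key n e hn fun a b => let ⟨g, h1, h2⟩ := h a b; ⟨g, h2, h1⟩)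
  refine ⟨⟨φ, ψ, hom_ext_of_frames U hcov e he fun a => ?_, hom_ext_of_frames U hcov n hn fun a => ?_⟩⟩
  · show ψ.app (U a) (φ.app (U a) (e a)) = e a
    rw [ofFrames_app, ofFrames_app]
  · show φ.app (U a) (ψ.app (U a) (n a)) = n a
    rw [ofFrames_app, ofFrames_app]

variable {I : Type u} [SmallCategory I] [IsCofiltered I] {D : I ⥤ Scheme.{u}} {c : Cone D} (hc : IsLimit c)
  [∀ {i j} (f : i ⟶ j), IsAffineHom (D.map f)]

/-- Pullback of functions to a stage. -/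
noncomputable def push {i j : I} (f : j ⟶ i) (U : (D.obj i).Opens) : Γ(D.obj i, U) →+* Γ(D.obj j, D.map f ⁻¹ᵁ U) :=
  ((D.map f).app U).hom

theorem π_le {i j : I} (f : j ⟶ i) (U : (D.obj i).Opens) :
    c.π.app i ⁻¹ᵁ U ≤ c.π.app j ⁻¹ᵁ D.map f ⁻¹ᵁ U := by
  rw [← Scheme.Hom.comp_preimage, c.w]

theorem toLim_push {i j : I} (f : j ⟶ i) (U : (D.obj i).Opens) {V : c.pt.Opens}
    (h : V ≤ c.π.app j ⁻¹ᵁ D.map f ⁻¹ᵁ U) (h' : V ≤ c.π.app i ⁻¹ᵁ U) (x : Γ(D.obj i, U)) :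
    (c.π.app j).appLE _ V h (push f U x) = (c.π.app i).appLE U V h' x := by
  show ((D.map f).app U ≫ (c.π.app j).appLE _ V h) x = _
  rw [Scheme.Hom.app_eq_appLE, Scheme.Hom.appLE_comp_appLE]
  simp only [c.w]

include hc in
theorem exists_lift_pair [∀ i, CompactSpace (D.obj i)] [∀ i, (D.obj i).IsSeparated] {i : I} {J : Type u} [Finite J]
    (V : J → (D.obj i).Opens) (hV : ∀ a, IsAffineOpen (V a))
    (s : ∀ a, Γ(c.pt, c.π.app i ⁻¹ᵁ V a)) :
    ∃ (j : I) (f : j ⟶ i) (t : ∀ a, Γ(D.obj j, D.map f ⁻¹ᵁ V a)),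
      ∀ a, (c.π.app j).appLE _ _ (π_le f (V a)) (t a) = s a := by
  classical
  cases nonempty_fintype J
  choose j f t ht using fun a => LimMor.exists_appLE_eq_of_isLimit hc (hV a) (s a)
  obtain ⟨k, hk⟩ := IsCofiltered.inf_objs_exists (Finset.univ.image fun a => Over.mk (f a))
  let φ : ∀ a, k ⟶ Over.mk (f a) := fun a => (hk (Finset.mem_image_of_mem _ (Finset.mem_univ a))).some
  have hle : ∀ a, D.map k.hom ⁻¹ᵁ V a ≤ D.map (φ a).left ⁻¹ᵁ D.map (f a) ⁻¹ᵁ V a := fun a => by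
    rw [← Scheme.Hom.comp_preimage, ← D.map_comp, show (φ a).left ≫ f a = k.hom from Over.w (φ a)]
  refine ⟨k.left, k.hom, fun a => resR (hle a) (push (φ a).left _ (t a)), fun a => ?_⟩
  refine Eq.trans ?_ (ht a)
  refine Eq.trans ?_ (toLim_push (φ a).left (D.map (f a) ⁻¹ᵁ V a)
    ((π_le k.hom (V a)).trans ((c.π.app k.left).preimage_mono (hle a))) (π_le (f a) (V a)) (t a))
  show ((D.obj k.left).presheaf.map _ ≫ (c.π.app k.left).appLE _ _ _) _ = _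
  rw [Scheme.Hom.map_appLE]

include hc in
theorem exists_eq_pair [∀ i, CompactSpace (D.obj i)] {i : I} {J : Type u} [Finite J]
    (V : J → (D.obj i).Opens) (hV : ∀ a, IsCompact (V a : Set (D.obj i)))
    (s t : ∀ a, Γ(D.obj i, V a)) (h : ∀ a, (c.π.app i).app (V a) (s a) = (c.π.app i).app (V a) (t a)) :
    ∃ (j : I) (f : j ⟶ i), ∀ a, push f (V a) (s a) = push f (V a) (t a) := by
  classical
  cases nonempty_fintype J
  choose j f hf using fun a => exists_app_map_eq_map_of_isLimit D c hc (hV a) (s a) (t a) (h a)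
  obtain ⟨k, hk⟩ := IsCofiltered.inf_objs_exists (Finset.univ.image fun a => Over.mk (f a))
  let φ : ∀ a, k ⟶ Over.mk (f a) := fun a => (hk (Finset.mem_image_of_mem _ (Finset.mem_univ a))).some
  refine ⟨k.left, k.hom, fun a => ?_⟩
  have key : ∀ (g : k.left ⟶ i), g = (φ a).left ≫ f a → push g (V a) (s a) = push g (V a) (t a) := by
    rintro g rfl
    show (D.map ((φ a).left ≫ f a)).app (V a) (s a) = (D.map ((φ a).left ≫ f a)).app (V a) (t a)
    have e : D.map ((φ a).left ≫ f a) = D.map (φ a).left ≫ D.map (f a) := D.map_comp _ _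
    rw [Scheme.Hom.congr_app e]
    exact congrArg (fun z => (D.obj k.left).presheaf.map _ ((D.map (φ a).left).app _ z)) (hf a)
  exact key k.hom (Over.w (φ a)).symm

set_option maxHeartbeats 800000 in
include hc in
/-- Invertible modules come from a stage. -/
theorem exists_inv_stage [∀ i, CompactSpace (D.obj i)] [∀ i, (D.obj i).IsSeparated]
    (L : c.pt.Modules) (hL : PicF.IsInvertible L) :
    ∃ (i : I) (M : (D.obj i).Modules), PicF.IsInvertible M ∧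
      Nonempty ((Scheme.Modules.pullback (c.π.app i)).obj M ≅ L) := by
  classical
  haveI := Scheme.compactSpace_of_isLimit D c hc
  have hloc : ∀ x : c.pt, ∃ W : c.pt.Opens, IsAffineOpen W ∧ x ∈ W ∧ ∃ e : Γ(L, W), IsFrame e := fun x => by
    obtain ⟨U, hxU, e, he⟩ := InvX.exists_frame hL x
    obtain ⟨_, ⟨W, hW, rfl⟩, hxW, hWU⟩ := c.pt.isBasis_affineOpens.exists_subset_of_mem_open hxU U.2
    exact ⟨W, hW, hxW, res L hWU e, he.res hWU⟩
  choose W hW hxW e he using hloc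
  obtain ⟨T, hT⟩ := isCompact_univ.elim_finite_subcover (fun x => (W x : Set c.pt)) (fun x => (W x).2)
    fun x _ => Set.mem_iUnion.2 ⟨x, hxW x⟩
  let J := {x // x ∈ T}
  have hcovT : ∀ x, ∃ a : J, x ∈ W a.1 := fun x => by
    obtain ⟨a, ha⟩ := Set.mem_iUnion.1 (hT (Set.mem_univ x))
    obtain ⟨ha', hx⟩ := Set.mem_iUnion.1 ha
    exact ⟨⟨a, ha'⟩, hx⟩
  obtain ⟨i, V, hVcov, hV⟩ := Scheme.exists_isOpenCover_and_isAffine_of_finite D c hc (fun a : J => W a.1)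
    (TopologicalSpace.IsOpenCover.mk (eq_top_iff.2 fun x _ => Opens.mem_iSup.2 (hcovT x))) (fun a => hW a.1)
  let U : J → c.pt.Opens := fun a => c.π.app i ⁻¹ᵁ V a
  let eU : ∀ a, Γ(L, U a) := fun a => res L (hV a).2.ge (e a.1)
  have heU : ∀ a, IsFrame (eU a) := fun a => (he a.1).res _
  have hg := fun p : J × J => (heU p.2).exists_coord (inf_le_right : U p.1 ⊓ U p.2 ≤ U p.2)
    (res L (inf_le_left : U p.1 ⊓ U p.2 ≤ U p.1) (eU p.1))
  choose g hg using hg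
  have hgtr : ∀ a b d (Z : c.pt.Opens) (ha : Z ≤ U a) (hb : Z ≤ U b) (hd : Z ≤ U d),
      resR (le_inf ha hd) (g (a, d)) = resR (le_inf hb hd) (g (b, d)) * resR (le_inf ha hb) (g (a, b)) := by
    intro a b d Z ha hb hd
    refine (heU d).coord_unique hd ?_
    have h1 := congrArg (res L (le_inf ha hd)) (hg (a, d))
    have h2 := congrArg (res L (le_inf hb hd)) (hg (b, d))
    have h3 := congrArg (res L (le_inf ha hb)) (hg (a, b))
    simp only [res_smul, res_res] at h1 h2 h3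
    rw [mul_comm, mul_smul, ← h2, ← h3, h1]
  have hginv : ∀ a b, g (a, b) * resR (le_inf inf_le_right inf_le_left) (g (b, a)) = 1 := by
    intro a b
    refine (heU b).coord_unique inf_le_right ?_
    have h1 := congrArg (res L (le_inf (inf_le_right : U a ⊓ U b ≤ U b) inf_le_left)) (hg (b, a))
    simp only [res_smul, res_res] at h1
    rw [mul_comm, mul_smul, ← hg (a, b), ← h1, one_smul]
  -- the transition functions at a stage
  obtain ⟨j, f, t, ht⟩ := exists_lift_pair hc (fun p : J × J => V p.1 ⊓ V p.2)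
    (fun p => (hV p.1).1.inf (hV p.2).1) g
  let Vj : J → (D.obj j).Opens := fun a => D.map f ⁻¹ᵁ V a
  have hVj : ∀ a, IsAffineOpen (Vj a) := fun a => (hV a).1.preimage (D.map f)
  have hUj : ∀ a, U a ≤ c.π.app j ⁻¹ᵁ Vj a := fun a => π_le f (V a)
  have hUj' : ∀ a, c.π.app j ⁻¹ᵁ Vj a ≤ U a := fun a => by
    show c.π.app j ⁻¹ᵁ D.map f ⁻¹ᵁ V a ≤ c.π.app i ⁻¹ᵁ V a
    rw [← Scheme.Hom.comp_preimage, c.w]
  have hlim : ∀ (p : J × J) (Z : (D.obj j).Opens) (h : Z ≤ Vj p.1 ⊓ Vj p.2),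
      (c.π.app j).app Z (resR (show Z ≤ D.map f ⁻¹ᵁ (V p.1 ⊓ V p.2) from h) (t p)) =
        resR ((c.π.app j).preimage_mono h |>.trans (show c.π.app j ⁻¹ᵁ (Vj p.1 ⊓ Vj p.2) ≤ U p.1 ⊓ U p.2 from
          fun z hz => ⟨hUj' p.1 hz.1, hUj' p.2 hz.2⟩)) (g p) := by
    intro p Z h
    rw [← ht p]
    show ((D.obj j).presheaf.map _ ≫ (c.π.app j).app Z) (t p) = ((c.π.app j).appLE _ _ _ ≫ c.pt.presheaf.map _) (t p)
    erw [Scheme.Hom.appLE_map, Scheme.Hom.app_eq_appLE, Scheme.Hom.map_appLE]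
  -- the cocycle identities at a finer stage
  obtain ⟨k₁, f₁, h₁⟩ := exists_eq_pair hc (i := j) (fun p : J × J × J => Vj p.1 ⊓ Vj p.2.1 ⊓ Vj p.2.2)
    (fun p => (((hVj p.1).inf (hVj p.2.1)).inf (hVj p.2.2)).isCompact)
    (fun p => resR (show Vj p.1 ⊓ Vj p.2.1 ⊓ Vj p.2.2 ≤ D.map f ⁻¹ᵁ (V p.1 ⊓ V p.2.2) from
      fun z hz => ⟨hz.1.1, hz.2⟩) (t (p.1, p.2.2)))
    (fun p => resR (show Vj p.1 ⊓ Vj p.2.1 ⊓ Vj p.2.2 ≤ D.map f ⁻¹ᵁ (V p.2.1 ⊓ V p.2.2) from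
      fun z hz => ⟨hz.1.2, hz.2⟩) (t (p.2.1, p.2.2)) *
      resR (show Vj p.1 ⊓ Vj p.2.1 ⊓ Vj p.2.2 ≤ D.map f ⁻¹ᵁ (V p.1 ⊓ V p.2.1) from
      fun z hz => ⟨hz.1.1, hz.1.2⟩) (t (p.1, p.2.1)))
    (fun p => by
      let Z := Vj p.1 ⊓ Vj p.2.1 ⊓ Vj p.2.2
      rw [map_mul, hlim (p.1, p.2.2) Z fun z hz => ⟨hz.1.1, hz.2⟩,
        hlim (p.2.1, p.2.2) Z fun z hz => ⟨hz.1.2, hz.2⟩, hlim (p.1, p.2.1) Z fun z hz => ⟨hz.1.1, hz.1.2⟩]
      exact hgtr _ _ _ (c.π.app j ⁻¹ᵁ Z) (fun z hz => hUj' p.1 hz.1.1) (fun z hz => hUj' p.2.1 hz.1.2) (fun z hz => hUj' p.2.2 hz.2))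
  obtain ⟨k₂, f₂, h₂⟩ := exists_eq_pair hc (i := j) (fun p : J × J => Vj p.1 ⊓ Vj p.2)
    (fun p => ((hVj p.1).inf (hVj p.2)).isCompact)
    (fun p => resR (show Vj p.1 ⊓ Vj p.2 ≤ D.map f ⁻¹ᵁ (V p.1 ⊓ V p.2) from le_rfl) (t p) *
      resR (show Vj p.1 ⊓ Vj p.2 ≤ D.map f ⁻¹ᵁ (V p.2 ⊓ V p.1) from fun z hz => ⟨hz.2, hz.1⟩) (t (p.2, p.1)))
    (fun p => 1)
    (fun p => by
      rw [map_mul, hlim p _ le_rfl, hlim (p.2, p.1) (Vj p.1 ⊓ Vj p.2) fun z hz => ⟨hz.2, hz.1⟩, map_one]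
      have h := congrArg (resR (show c.π.app j ⁻¹ᵁ (Vj p.1 ⊓ Vj p.2) ≤ U p.1 ⊓ U p.2 from
        fun z hz => ⟨hUj' p.1 hz.1, hUj' p.2 hz.2⟩)) (hginv p.1 p.2)
      rwa [map_mul, map_one, resR_resR] at h)
  obtain ⟨k, φ₁, φ₂, -⟩ := IsCofilteredOrEmpty.cone_objs (Over.mk f₁) (Over.mk f₂)
  let F : k.left ⟶ j := k.hom
  let Uk : J → (D.obj k.left).Opens := fun a => D.map F ⁻¹ᵁ Vj a
  let tk : ∀ a b, Γ(D.obj k.left, Uk a ⊓ Uk b) := fun a b => push F (D.map f ⁻¹ᵁ (V a ⊓ V b)) (t (a, b))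
  have hpush : ∀ {k' : I} (g' : k' ⟶ j) (φ : k.left ⟶ k'), φ ≫ g' = F →
      ∀ (Z : (D.obj j).Opens) (x y : Γ(D.obj j, Z)), push g' Z x = push g' Z y → push F Z x = push F Z y := by
    intro k' g' φ hφ Z x y hxy
    rw [← hφ]
    show (D.map (φ ≫ g')).app Z x = (D.map (φ ≫ g')).app Z y
    rw [Scheme.Hom.congr_app (D.map_comp φ g')]
    exact congrArg (fun z => (D.obj k.left).presheaf.map _ ((D.map φ).app _ z)) hxy
  have hres : ∀ {Z Z' : (D.obj j).Opens} (h : Z' ≤ Z) (x : Γ(D.obj j, Z)),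
      push F Z' (resR h x) = resR ((D.map F).preimage_mono h) (push F Z x) := fun h x =>
    congr($((D.map F).naturality (homOfLE h).op) x)
  let C : CocycleMod.Cocycle Uk :=
    { g := fun a b => Units.mkOfMulEqOne (tk a b)
        (resR (show Uk a ⊓ Uk b ≤ Uk b ⊓ Uk a from fun z hz => ⟨hz.2, hz.1⟩) (tk b a)) (by
          have h := hpush f₂ φ₂.left (Over.w φ₂) _ _ _ (h₂ (a, b))
          rw [map_mul, map_one, hres, hres] at h
          erw [resR_self] at h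
          exact h)
      trans := fun a b d Z ha hb hd => by
        have h := hpush f₁ φ₁.left (Over.w φ₁) _ _ _ (h₁ (a, b, d))
        rw [map_mul, hres, hres, hres] at h
        have h' := congrArg (resR (show Z ≤ D.map F ⁻¹ᵁ (Vj a ⊓ Vj b ⊓ Vj d) from
          fun z hz => ⟨⟨ha hz, hb hz⟩, hd hz⟩)) h
        rw [map_mul, resR_resR, resR_resR, resR_resR] at h'
        exact h' }
  have hUkπ : ∀ a, U a ≤ c.π.app k.left ⁻¹ᵁ Uk a := fun a => (hUj a).trans (π_le F (Vj a))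
  have hUk' : ∀ a, c.π.app k.left ⁻¹ᵁ Uk a ≤ U a := fun a => by
    refine le_trans ?_ (hUj' a)
    show c.π.app k.left ⁻¹ᵁ D.map F ⁻¹ᵁ Vj a ≤ _
    rw [← Scheme.Hom.comp_preimage, c.w]
  have hVjcov : iSup Uk = ⊤ := by
    refine eq_top_iff.2 fun z _ => ?_
    obtain ⟨a, ha⟩ := Opens.mem_iSup.1 (show D.map f (D.map F z) ∈ iSup V by rw [hVcov.iSup_eq_top]; trivial)
    exact Opens.mem_iSup.2 ⟨a, ha⟩
  refine ⟨k.left, CocycleMod.mod C, CocycleMod.isInvertible C hVjcov, ?_⟩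
  let π : c.pt ⟶ D.obj k.left := c.π.app k.left
  let n : ∀ a, Γ((Scheme.Modules.pullback π).obj (CocycleMod.mod C), U a) :=
    fun a => res _ (hUkπ a) (pullElt π (CocycleMod.frame C a))
  refine iso_of_frames U (fun x => ?_) n (fun a => (isFrame_pullElt π (CocycleMod.isFrame_frame C a)).res _)
    eU heU fun a b => ⟨g (a, b), ?_, hg (a, b)⟩
  · obtain ⟨a, ha⟩ := hcovT x
    exact ⟨a, (hV a).2.le ha⟩
  · have h := congrArg (fun s => res _ (show U a ⊓ U b ≤ π ⁻¹ᵁ (Uk a ⊓ Uk b) from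
      fun z hz => ⟨hUkπ a hz.1, hUkπ b hz.2⟩) (pullElt π s)) (CocycleMod.res_frame C a b)
    simp only [pullElt_smul, ← res_pullElt, res_smul, res_res] at h
    refine (res_res _ _ _).trans (h.trans ?_)
    refine Eq.trans ?_ (congrArg (g (a, b) • ·) (res_res _ _ _).symm)
    congr 1
    rw [← ht (a, b)]
    exact toLim_push F (D.map f ⁻¹ᵁ (V a ⊓ V b)) (show U a ⊓ U b ≤ _ from fun z hz => ⟨hUkπ a hz.1, hUkπ b hz.2⟩)
      (π_le f (V a ⊓ V b)) (t (a, b))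

set_option maxHeartbeats 800000 in
include hc in
/-- A module trivial on the limit is trivial at a finer stage. -/
theorem exists_triv_stage [∀ i, CompactSpace (D.obj i)] [∀ i, (D.obj i).IsSeparated] (i : I)
    (M : (D.obj i).Modules) (hM : PicF.IsInvertible M)
    (h : TrivBasic.Triv ((Scheme.Modules.pullback (c.π.app i)).obj M)) :
    ∃ (j : I) (f : j ⟶ i), TrivBasic.Triv ((Scheme.Modules.pullback (D.map f)).obj M) := by
  classical
  have hloc : ∀ x : D.obj i, ∃ W : (D.obj i).Opens, IsAffineOpen W ∧ x ∈ W ∧ ∃ e : Γ(M, W), IsFrame e := fun x => by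
    obtain ⟨U, hxU, e, he⟩ := InvX.exists_frame hM x
    obtain ⟨_, ⟨W, hW, rfl⟩, hxW, hWU⟩ := (D.obj i).isBasis_affineOpens.exists_subset_of_mem_open hxU U.2
    exact ⟨W, hW, hxW, res M hWU e, he.res hWU⟩
  choose W hW hxW e he using hloc
  obtain ⟨T, hT⟩ := isCompact_univ.elim_finite_subcover (fun x => (W x : Set (D.obj i))) (fun x => (W x).2)
    fun x _ => Set.mem_iUnion.2 ⟨x, hxW x⟩
  let J := {x // x ∈ T}
  have hcovT : ∀ x, ∃ a : J, x ∈ W a.1 := fun x => by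
    obtain ⟨a, ha⟩ := Set.mem_iUnion.1 (hT (Set.mem_univ x))
    obtain ⟨ha', hx⟩ := Set.mem_iUnion.1 ha
    exact ⟨⟨a, ha'⟩, hx⟩
  let π : c.pt ⟶ D.obj i := c.π.app i
  let U : J → c.pt.Opens := fun a => π ⁻¹ᵁ W a.1
  have h' : TrivBasic.Triv (X := c.pt) ((Scheme.Modules.pullback π).obj M) := h
  obtain ⟨E, hE⟩ := h'.exists_frame
  have hu := fun a : J => (isFrame_pullElt π (he a.1)).exists_coord (le_refl (U a)) (res _ le_top E)
  choose u hu using hu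
  simp only [res_self] at hu
  have hv := fun a : J => (hE.res (le_top : U a ≤ ⊤)).exists_coord le_rfl (pullElt π (e a.1))
  choose v hv using hv
  simp only [res_self] at hv
  have huv : ∀ a, u a * v a = 1 := fun a => (hE.res (le_top : U a ≤ ⊤)).coord_unique le_rfl (by
    rw [res_self, one_smul, mul_smul, ← hv a, ← hu a])
  have hg := fun p : J × J => (he p.2.1).exists_coord (inf_le_right : W p.1.1 ⊓ W p.2.1 ≤ W p.2.1)
    (res M (inf_le_left : W p.1.1 ⊓ W p.2.1 ≤ W p.1.1) (e p.1.1))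
  choose g hg using hg
  have hrel : ∀ p : J × J, resR (inf_le_left : U p.1 ⊓ U p.2 ≤ U p.1) (u p.1) *
      resR (show U p.1 ⊓ U p.2 ≤ π ⁻¹ᵁ (W p.1.1 ⊓ W p.2.1) from le_rfl) (π.app _ (g p)) =
      resR (inf_le_right : U p.1 ⊓ U p.2 ≤ U p.2) (u p.2) := fun p => by
    refine (isFrame_pullElt π (he p.2.1)).coord_unique inf_le_right ?_
    have h1 := congrArg (pullElt π) (hg p)
    rw [pullElt_smul, ← res_pullElt π inf_le_left, ← res_pullElt π inf_le_right] at h1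
    have h2 := congrArg (res _ (inf_le_left : U p.1 ⊓ U p.2 ≤ U p.1)) (hu p.1)
    have h3 := congrArg (res _ (inf_le_right : U p.1 ⊓ U p.2 ≤ U p.2)) (hu p.2)
    rw [res_smul, res_res] at h2 h3
    rw [mul_smul, ← h3, h2]
    erw [resR_self]
    exact congrArg (_ • ·) h1.symm
  obtain ⟨j, f, tu, htu⟩ := exists_lift_pair hc (fun a : J => W a.1) (fun a => hW a.1) u
  obtain ⟨j', f', tv, htv⟩ := exists_lift_pair hc (fun a : J => W a.1) (fun a => hW a.1) v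
  obtain ⟨k, φ, φ', -⟩ := IsCofilteredOrEmpty.cone_objs (Over.mk f) (Over.mk f')
  let Wk : J → (D.obj k.left).Opens := fun a => D.map k.hom ⁻¹ᵁ W a.1
  have hle : ∀ a, Wk a ≤ D.map φ.left ⁻¹ᵁ D.map f ⁻¹ᵁ W a.1 := fun a => by
    rw [← Scheme.Hom.comp_preimage, ← D.map_comp, show φ.left ≫ f = k.hom from Over.w φ]
  have hle' : ∀ a, Wk a ≤ D.map φ'.left ⁻¹ᵁ D.map f' ⁻¹ᵁ W a.1 := fun a => by
    rw [← Scheme.Hom.comp_preimage, ← D.map_comp, show φ'.left ≫ f' = k.hom from Over.w φ']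
  let uk : ∀ a, Γ(D.obj k.left, Wk a) := fun a => resR (hle a) (push φ.left _ (tu a))
  let vk : ∀ a, Γ(D.obj k.left, Wk a) := fun a => resR (hle' a) (push φ'.left _ (tv a))
  let πk : c.pt ⟶ D.obj k.left := c.π.app k.left
  have hW' : ∀ {Z : (D.obj i).Opens}, π ⁻¹ᵁ Z = πk ⁻¹ᵁ D.map k.hom ⁻¹ᵁ Z := fun {Z} => by
    show c.π.app i ⁻¹ᵁ Z = c.π.app k.left ⁻¹ᵁ _
    rw [← Scheme.Hom.comp_preimage, c.w]
  have hukπ : ∀ a, πk.app _ (uk a) = resR hW'.ge (u a) := fun a => by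
    refine Eq.trans ?_ (congrArg (resR hW'.ge) (htu a))
    refine Eq.trans ?_ (congrArg (resR hW'.ge) (toLim_push φ.left (D.map f ⁻¹ᵁ W a.1)
      ((π_le k.hom (W a.1)).trans (πk.preimage_mono (hle a))) (π_le f (W a.1)) (tu a)))
    show ((D.obj k.left).presheaf.map _ ≫ πk.app _) _ = (πk.appLE _ _ _ ≫ c.pt.presheaf.map _) _
    erw [Scheme.Hom.appLE_map, Scheme.Hom.app_eq_appLE, Scheme.Hom.map_appLE]
  have hvkπ : ∀ a, πk.app _ (vk a) = resR hW'.ge (v a) := fun a => by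
    refine Eq.trans ?_ (congrArg (resR hW'.ge) (htv a))
    refine Eq.trans ?_ (congrArg (resR hW'.ge) (toLim_push φ'.left (D.map f' ⁻¹ᵁ W a.1)
      ((π_le k.hom (W a.1)).trans (πk.preimage_mono (hle' a))) (π_le f' (W a.1)) (tv a)))
    show ((D.obj k.left).presheaf.map _ ≫ πk.app _) _ = (πk.appLE _ _ _ ≫ c.pt.presheaf.map _) _
    erw [Scheme.Hom.appLE_map, Scheme.Hom.app_eq_appLE, Scheme.Hom.map_appLE]
  obtain ⟨l₁, g₁, h₁⟩ := exists_eq_pair hc (i := k.left) Wk (fun a => ((hW a.1).preimage _).isCompact)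
    (fun a => uk a * vk a) (fun a => 1) fun a => by
      rw [map_mul, hukπ, hvkπ, ← map_mul, huv, map_one, map_one]
  have hgk : ∀ p : J × J, πk.app _ (push k.hom _ (g p)) = resR hW'.ge (π.app _ (g p)) := fun p => by
    show ((D.map k.hom).app _ ≫ πk.app _) (g p) = (π.app _ ≫ c.pt.presheaf.map _) (g p)
    rw [← Scheme.Hom.comp_app, Scheme.Hom.app_eq_appLE, Scheme.Hom.app_eq_appLE, Scheme.Hom.appLE_map]
    simp only [π, πk, c.w]
    rfl
  obtain ⟨l₂, g₂, h₂⟩ := exists_eq_pair hc (i := k.left) (fun p : J × J => D.map k.hom ⁻¹ᵁ (W p.1.1 ⊓ W p.2.1))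
    (fun p => (((hW p.1.1).inf (hW p.2.1)).preimage _).isCompact)
    (fun p => resR (show D.map k.hom ⁻¹ᵁ (W p.1.1 ⊓ W p.2.1) ≤ Wk p.1 from fun z hz => hz.1) (uk p.1) *
      push k.hom _ (g p))
    (fun p => resR (show D.map k.hom ⁻¹ᵁ (W p.1.1 ⊓ W p.2.1) ≤ Wk p.2 from fun z hz => hz.2) (uk p.2)) fun p => by
      have e := congrArg (resR (hW' (Z := W p.1.1 ⊓ W p.2.1)).ge) (hrel p)
      erw [map_mul, resR_resR, resR_resR, resR_resR, ← hgk] at e
      have n1 : ∀ {Z : (D.obj k.left).Opens} {a : J} (h : Z ≤ Wk a),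
          πk.app Z (resR h (uk a)) = resR (πk.preimage_mono h) (πk.app _ (uk a)) := fun h =>
        congr($(πk.naturality (homOfLE h).op) _)
      show πk.app _ (_ * _) = πk.app _ _
      rw [map_mul, n1, n1, hukπ, hukπ, resR_resR, resR_resR]
      exact e
  obtain ⟨l, ψ₁, ψ₂, -⟩ := IsCofilteredOrEmpty.cone_objs (Over.mk g₁) (Over.mk g₂)
  let G : l.left ⟶ k.left := l.hom
  let ρ := D.map (G ≫ k.hom)
  refine ⟨l.left, G ≫ k.hom, ?_⟩
  have hρ : ∀ Z, ρ ⁻¹ᵁ Z = D.map G ⁻¹ᵁ D.map k.hom ⁻¹ᵁ Z := fun Z => by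
    rw [← Scheme.Hom.comp_preimage, ← D.map_comp]
  have hpush : ∀ {l' : I} (g' : l' ⟶ k.left) (ψ : l.left ⟶ l'), ψ ≫ g' = G →
      ∀ (Z : (D.obj k.left).Opens) (x y : Γ(D.obj k.left, Z)), push g' Z x = push g' Z y → push G Z x = push G Z y := by
    intro l' g' ψ hψ Z x y hxy
    rw [← hψ]
    show (D.map (ψ ≫ g')).app Z x = (D.map (ψ ≫ g')).app Z y
    rw [Scheme.Hom.congr_app (D.map_comp ψ g')]
    exact congrArg (fun z => (D.obj l.left).presheaf.map _ ((D.map ψ).app _ z)) hxy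
  let ul : ∀ a : J, Γ(D.obj l.left, ρ ⁻¹ᵁ W a.1) := fun a => resR (hρ _).le (push G _ (uk a))
  have hunit : ∀ a, IsUnit (ul a) := fun a => by
    have e := hpush g₁ ψ₁.left (Over.w ψ₁) _ _ _ (h₁ a)
    rw [map_mul, map_one] at e
    exact (IsUnit.of_mul_eq_one _ e).map _
  have hul : ∀ a b : J, resR (inf_le_left : ρ ⁻¹ᵁ W a.1 ⊓ ρ ⁻¹ᵁ W b.1 ≤ _) (ul a) *
      resR (show ρ ⁻¹ᵁ W a.1 ⊓ ρ ⁻¹ᵁ W b.1 ≤ ρ ⁻¹ᵁ (W a.1 ⊓ W b.1) from le_rfl) (ρ.app _ (g (a, b))) =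
      resR inf_le_right (ul b) := by
    intro a b
    have e := hpush g₂ ψ₂.left (Over.w ψ₂) _ _ _ (h₂ (a, b))
    have n1 : ∀ {Z Z' : (D.obj k.left).Opens} (h : Z ≤ Z') (x : Γ(D.obj k.left, Z')),
        push G Z (resR h x) = resR ((D.map G).preimage_mono h) (push G Z' x) := fun h x =>
      congr($((D.map G).naturality (homOfLE h).op) x)
    have e0 : resR (show D.map G ⁻¹ᵁ D.map k.hom ⁻¹ᵁ (W a.1 ⊓ W b.1) ≤ D.map G ⁻¹ᵁ Wk a from fun z hz => hz.1)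
        (push G (Wk a) (uk a)) * push G (D.map k.hom ⁻¹ᵁ (W a.1 ⊓ W b.1)) (push k.hom _ (g (a, b))) =
        resR (show D.map G ⁻¹ᵁ D.map k.hom ⁻¹ᵁ (W a.1 ⊓ W b.1) ≤ D.map G ⁻¹ᵁ Wk b from fun z hz => hz.2)
          (push G (Wk b) (uk b)) :=
      ((congrArg₂ (· * ·) (n1 _ _).symm rfl).trans (map_mul _ _ _).symm).trans (e.trans (n1 _ _))
    have e' := congrArg (resR (hρ (W a.1 ⊓ W b.1)).le) e0
    rw [map_mul, resR_resR, resR_resR] at e'
    have e3 : resR (hρ (W a.1 ⊓ W b.1)).le (push G _ (push k.hom _ (g (a, b)))) = ρ.app _ (g (a, b)) := by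
      show ((D.map k.hom).app _ ≫ (D.map G).app _ ≫ (D.obj l.left).presheaf.map _) (g (a, b)) = _
      rw [← Category.assoc, ← Scheme.Hom.comp_app, Scheme.Hom.app_eq_appLE, Scheme.Hom.app_eq_appLE]
      erw [Scheme.Hom.appLE_map]
      simp only [ρ, D.map_comp]
    rw [e3] at e'
    erw [resR_self, resR_resR, resR_resR]
    exact e'
  let ne : ∀ a : J, Γ((Scheme.Modules.pullback ρ).obj M, ρ ⁻¹ᵁ W a.1) := fun a => ul a • pullElt ρ (e a.1)
  have hne : ∀ a, IsFrame (ne a) := fun a => (isFrame_pullElt ρ (he a.1)).isUnit_smul (hunit a)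
  obtain ⟨Fr, hF, -⟩ := existsUnique_glue (M := (Scheme.Modules.pullback ρ).obj M) (V := ⊤)
    (fun a : J => ρ ⁻¹ᵁ W a.1) (fun _ => le_top) (fun z _ => hcovT (ρ z)) ne fun a b => by
      have h1 := congrArg (pullElt ρ) (hg (a, b))
      rw [pullElt_smul, ← res_pullElt ρ inf_le_left, ← res_pullElt ρ inf_le_right] at h1
      simp only [ne, res_smul]
      rw [← hul a b, mul_smul]
      exact congrArg (_ • ·) (h1.trans (congrArg (· • _) (resR_self _).symm))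
  refine TrivBasic.triv_of_frame (e := Fr) (TrivBasic.isFrame_of_germwise fun z _ => ?_)
  obtain ⟨a, ha⟩ := hcovT (ρ z)
  refine ⟨ρ ⁻¹ᵁ W a.1, le_top, ha, ?_⟩
  rw [hF]
  exact hne a

end Groth.Agent.AbSchX.CubeBase
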