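import Groth.Agent.H23.InfLift

/-! An invertible module trivial modulo a small element and on slices is trivial, if cocycles of functions
on the special fibre which bound on the slices bound. -/

set_option autoImplicit false
set_option linter.style.haveILetI false
universe u

open CategoryTheory Limits AlgebraicGeometry TopologicalSpace Opposite

namespace Groth.Agent.AbSchX.CubeBase

open Groth.Agent.AModX Groth.Agent.InvX Groth.Agent.H23 Groth.Agent.H23.TrivBasic Groth.Agent.H23.KunnethH1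
  Groth.Agent.H23.InfLift

section Pl

variable {X Y Z : Scheme.{u}}

/-- Pullback of functions to a smaller open. -/
noncomputable abbrev pl (f : Y ⟶ X) {U : X.Opens} {V : Y.Opens} (h : V ≤ f ⁻¹ᵁ U) : Γ(X, U) →+* Γ(Y, V) :=
  (f.appLE U V h).hom

theorem pl_pl (f : Y ⟶ X) (g : Z ⟶ Y) {U : X.Opens} {V : Y.Opens} {W : Z.Opens} (h : V ≤ f ⁻¹ᵁ U)
    (h' : W ≤ g ⁻¹ᵁ V) (h'' : W ≤ (g ≫ f) ⁻¹ᵁ U) (x : Γ(X, U)) : pl g h' (pl f h x) = pl (g ≫ f) h'' x := by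
  show g.appLE V W h' (f.appLE U V h x) = (g ≫ f).appLE U W h'' x
  rw [← CommRingCat.comp_apply, Scheme.Hom.appLE_comp_appLE]

theorem pl_congr {f g : Y ⟶ X} (e : f = g) {U : X.Opens} {V : Y.Opens} (h : V ≤ f ⁻¹ᵁ U) (h' : V ≤ g ⁻¹ᵁ U)
    (x : Γ(X, U)) : pl f h x = pl g h' x := by
  subst e; rfl

theorem resR_pl (f : Y ⟶ X) {U : X.Opens} {V V' : Y.Opens} (h : V ≤ f ⁻¹ᵁ U) (h' : V' ≤ V) (x : Γ(X, U)) :
    resR h' (pl f h x) = pl f (h'.trans h) x := by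
  show (f.appLE U V h ≫ Y.presheaf.map (homOfLE h').op) x = _
  rw [Scheme.Hom.appLE_map]

theorem pl_resR (f : Y ⟶ X) {U U' : X.Opens} {V : Y.Opens} (h : V ≤ f ⁻¹ᵁ U') (h' : U' ≤ U) (x : Γ(X, U)) :
    pl f h (resR h' x) = pl f (h.trans (f.preimage_mono h')) x := by
  show (X.presheaf.map (homOfLE h').op ≫ f.appLE U' V h) x = _
  rw [Scheme.Hom.map_appLE]

theorem pl_app (f : Y ⟶ X) (U : X.Opens) (x : Γ(X, U)) : pl f (le_refl (f ⁻¹ᵁ U)) x = f.app U x := by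
  show f.appLE U _ _ x = _
  rw [Scheme.Hom.appLE_eq_app]

theorem resR_app (f : Y ⟶ X) (U : X.Opens) {V : Y.Opens} (h : V ≤ f ⁻¹ᵁ U) (x : Γ(X, U)) :
    resR h (f.app U x) = pl f h x := rfl

end Pl

/-- `e` is small: on affine opens its multiples are the kernel of `j` and its annihilator that of `i`. -/
structure Small {P P₀ P' : Scheme.{u}} (e : Γ(P, ⊤)) (i : P₀ ⟶ P) (j : P' ⟶ P) : Prop where
  ker : ∀ (U : P.Opens), IsAffineOpen U → ∀ x : Γ(P, U), j.app U x = 0 ↔ ∃ y : Γ(P, U), x = resR (le_top : U ≤ ⊤) e * y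
  ann : ∀ (U : P.Opens), IsAffineOpen U → ∀ x : Γ(P, U), resR (le_top : U ≤ ⊤) e * x = 0 ↔ i.app U x = 0
  sq : e * e = 0

/-- The small step. -/
theorem triv_step {P P₀ P' : Scheme.{u}} [P.IsSeparated] (e : Γ(P, ⊤)) (i : P₀ ⟶ P) (j : P' ⟶ P)
    [IsClosedImmersion i] [IsClosedImmersion j] [Surjective j] (hP : Small e i j)
    {J : Type u} (B : J → P.Opens) (hB : ∀ a, IsAffineOpen (B a)) (hcov : ∀ x, ∃ a, x ∈ B a)
    {N : Type} (Sl Sl₀ Sl' : N → Scheme.{u}) (σ : ∀ s, Sl s ⟶ P) [∀ s, IsClosedImmersion (σ s)]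
    (σ₀ : ∀ s, Sl₀ s ⟶ P₀) (σ' : ∀ s, Sl' s ⟶ P') (is : ∀ s, Sl₀ s ⟶ Sl s) (js : ∀ s, Sl' s ⟶ Sl s)
    [∀ s, Surjective (js s)]
    (hi : ∀ s, σ₀ s ≫ i = is s ≫ σ s) (hj : ∀ s, σ' s ≫ j = js s ≫ σ s)
    (hS : ∀ s, Small ((σ s).appTop e) (is s) (js s)) (hΓ : ∀ s, Function.Surjective (js s).appTop)
    (hH : ∀ c : ∀ a b, Γ(P₀, i ⁻¹ᵁ B a ⊓ i ⁻¹ᵁ B b), IsCocycle (fun a => i ⁻¹ᵁ B a) c →
      (∀ s, IsCobound (fun a => σ₀ s ⁻¹ᵁ i ⁻¹ᵁ B a) (pullC (fun a => i ⁻¹ᵁ B a) (σ₀ s) c)) →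
        IsCobound (fun a => i ⁻¹ᵁ B a) c)
    (L : P.Modules) (hL : PicF.IsInvertible L)
    (h' : Triv ((Scheme.Modules.pullback j).obj L))
    (hσ : ∀ s, Triv ((Scheme.Modules.pullback (σ s)).obj L)) : Triv L := by
  classical
  have hjsur : Function.Surjective j := j.surjective
  have hBB : ∀ a b, IsAffineOpen (B a ⊓ B b) := fun a b => (hB a).inf (hB b)
  have hee : ∀ U : P.Opens, resR (le_top : U ≤ ⊤) e * resR (le_top : U ≤ ⊤) e = 0 := fun U => by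
    rw [← map_mul, hP.sq, map_zero]
  obtain ⟨e₀, he₀⟩ := h'.exists_frame
  -- frames
  have hframe : ∀ a, ∃ f : Γ(L, B a), InvX.IsFrame f ∧ pullElt j f = AModX.res _ le_top e₀ := fun a => by
    obtain ⟨f, hf⟩ := exists_lift (ProjUPX.isQCoh_of_isInvertible hL) j (hB a) (AModX.res _ le_top e₀)
    exact ⟨f, isFrame_of_pullElt hL j hjsur f (hf ▸ he₀.res le_top), hf⟩
  choose f hf hfj using hframe
  have hg := fun a b => (hf a).exists_coord (inf_le_left : B a ⊓ B b ≤ B a)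
    (AModX.res L (inf_le_right : B a ⊓ B b ≤ B b) (f b))
  choose g hg using hg
  have hg1 : ∀ a b, j.app _ (g a b) = 1 := by
    intro a b
    have h1 := congrArg (fun t => pullElt j t) (hg a b)
    simp only [pullElt_smul, ← res_pullElt, hfj, AModX.res_res] at h1
    refine he₀.coord_unique le_top ?_
    rw [one_smul]
    exact h1.symm
  have hx := fun a b => (hP.ker _ (hBB a b) (g a b - 1)).1 (by rw [map_sub, hg1, map_one, sub_self])
  choose x hx using hx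
  let c : ∀ a b, Γ(P₀, i ⁻¹ᵁ B a ⊓ i ⁻¹ᵁ B b) := fun a b =>
    pl i (le_of_eq (Scheme.Hom.preimage_inf i).symm) (x a b)
  have hgg : ∀ a b d, resR (inf_le_left : B a ⊓ B b ⊓ B d ≤ B a ⊓ B b) (g a b) *
      resR (show B a ⊓ B b ⊓ B d ≤ B b ⊓ B d from fun z hz => ⟨hz.1.2, hz.2⟩) (g b d) =
      resR (show B a ⊓ B b ⊓ B d ≤ B a ⊓ B d from fun z hz => ⟨hz.1.1, hz.2⟩) (g a d) := by
    intro a b d
    refine (hf a).coord_unique (show B a ⊓ B b ⊓ B d ≤ B a from fun z hz => hz.1.1) ?_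
    have h1 := congrArg (AModX.res L (inf_le_left : B a ⊓ B b ⊓ B d ≤ B a ⊓ B b)) (hg a b)
    have h2 := congrArg (AModX.res L (show B a ⊓ B b ⊓ B d ≤ B b ⊓ B d from fun z hz => ⟨hz.1.2, hz.2⟩)) (hg b d)
    have h3 := congrArg (AModX.res L (show B a ⊓ B b ⊓ B d ≤ B a ⊓ B d from fun z hz => ⟨hz.1.1, hz.2⟩)) (hg a d)
    simp only [AModX.res_smul, AModX.res_res] at h1 h2 h3
    rw [mul_comm, mul_smul, ← h1, ← h2, h3]
  have hcoc : IsCocycle (fun a => i ⁻¹ᵁ B a) c := by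
    intro a b d Z h₁ h₂ h₃
    have hab : B a ⊓ B b ⊓ B d ≤ B a ⊓ B b := inf_le_left
    have hbd : B a ⊓ B b ⊓ B d ≤ B b ⊓ B d := fun z hz => ⟨hz.1.2, hz.2⟩
    have had : B a ⊓ B b ⊓ B d ≤ B a ⊓ B d := fun z hz => ⟨hz.1.1, hz.2⟩
    have key : resR le_top e * (resR hab (x a b) + resR hbd (x b d) - resR had (x a d)) = 0 := by
      have e1 := congrArg (resR hab) (hx a b)
      have e2 := congrArg (resR hbd) (hx b d)
      have e3 := congrArg (resR had) (hx a d)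
      simp only [map_sub, map_one, map_mul, resR_resR] at e1 e2 e3
      linear_combination hgg a b d - e1 - resR hab (g a b) * e2 + e3 -
        resR hbd (x b d) * resR le_top e * e1 - resR hab (x a b) * resR hbd (x b d) * hee (B a ⊓ B b ⊓ B d)
    have hZ : Z ≤ i ⁻¹ᵁ (B a ⊓ B b ⊓ B d) := fun z hz => ⟨h₁ hz, (h₂ hz).2⟩
    have h0 := congrArg (resR hZ) ((hP.ann _ ((hBB a b).inf (hB d)) _).1 key)
    rw [resR_app, map_sub, map_add, map_zero, sub_eq_zero, pl_resR, pl_resR, pl_resR] at h0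
    simp only [c, resR_pl]
    exact h0
  have hsl : ∀ s, IsCobound (fun a => σ₀ s ⁻¹ᵁ i ⁻¹ᵁ B a) (pullC (fun a => i ⁻¹ᵁ B a) (σ₀ s) c) := by
    intro s
    let S := σ s
    obtain ⟨fS, hfS⟩ := (hσ s).exists_frame
    let εS : Γ(Sl s, ⊤) := S.appTop e
    have hAff : ∀ a, IsAffineOpen (S ⁻¹ᵁ B a) := fun a => (hB a).preimage S
    have hh := fun a => (hfS.res (le_top : S ⁻¹ᵁ B a ≤ ⊤)).exists_coord le_rfl (pullElt S (f a))
    choose h hh using hh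
    simp only [AModX.res_self] at hh
    have hUh : ∀ a, IsUnit (h a) := fun a => by
      obtain ⟨r, hr⟩ := (isFrame_pullElt S (hf a)).exists_coord le_rfl (AModX.res _ (le_top : S ⁻¹ᵁ B a ≤ ⊤) fS)
      rw [AModX.res_self] at hr
      refine IsUnit.of_mul_eq_one r ((hfS.res (le_top : S ⁻¹ᵁ B a ≤ ⊤)).coord_unique le_rfl ?_)
      rw [AModX.res_self, one_smul, mul_comm, mul_smul, ← hh a, ← hr]
    have hle₁ : ∀ a b, S ⁻¹ᵁ (B a ⊓ B b) ≤ S ⁻¹ᵁ B a := fun a b => S.preimage_mono inf_le_left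
    have hle₂ : ∀ a b, S ⁻¹ᵁ (B a ⊓ B b) ≤ S ⁻¹ᵁ B b := fun a b => S.preimage_mono inf_le_right
    have hrel : ∀ a b, resR (hle₂ a b) (h b) = S.app _ (g a b) * resR (hle₁ a b) (h a) := by
      intro a b
      have h1 := congrArg (pullElt S) (hg a b)
      rw [pullElt_smul, ← res_pullElt S inf_le_right, ← res_pullElt S inf_le_left, hh, hh, AModX.res_smul,
        AModX.res_smul, AModX.res_res, AModX.res_res, ← mul_smul] at h1
      exact hfS.coord_unique le_top h1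
    let T := js s
    have hTg : ∀ a b {V : (Sl' s).Opens} (hV : V ≤ T ⁻¹ᵁ S ⁻¹ᵁ (B a ⊓ B b)),
        pl T hV (S.app _ (g a b)) = 1 := by
      intro a b V hV
      have hV' : V ≤ σ' s ⁻¹ᵁ j ⁻¹ᵁ (B a ⊓ B b) := by
        rw [← Scheme.Hom.comp_preimage, hj]
        exact hV
      have hV'' : V ≤ (T ≫ S) ⁻¹ᵁ (B a ⊓ B b) := hV
      have hV3 : V ≤ (σ' s ≫ j) ⁻¹ᵁ (B a ⊓ B b) := hV'
      rw [← pl_app S, pl_pl S T _ hV hV'', pl_congr (hj s).symm hV'' hV3,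
        ← pl_pl j (σ' s) (le_refl _) hV' hV3, pl_app, hg1, map_one]
    let u : ∀ a, Γ(Sl' s, T ⁻¹ᵁ S ⁻¹ᵁ B a) := fun a => T.app _ (h a)
    obtain ⟨G, hG, -⟩ := (Sl' s).sheaf.existsUnique_gluing' (fun a => T ⁻¹ᵁ S ⁻¹ᵁ B a) ⊤
      (fun a => homOfLE le_top) (fun z _ => Opens.mem_iSup.2 ((hcov (S (T z))).imp fun a ha => ha)) u
      fun a b => by
        show resR inf_le_left (T.app _ (h a)) = resR inf_le_right (T.app _ (h b))
        have hV : T ⁻¹ᵁ S ⁻¹ᵁ B a ⊓ T ⁻¹ᵁ S ⁻¹ᵁ B b ≤ T ⁻¹ᵁ S ⁻¹ᵁ (B a ⊓ B b) := fun z hz => hz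
        have h1 := congrArg (pl T hV) (hrel a b)
        rw [map_mul, hTg a b hV, one_mul, pl_resR, pl_resR] at h1
        rw [← pl_app T, ← pl_app T, resR_pl, resR_pl]
        exact h1.symm
    obtain ⟨q, hq⟩ := hΓ s G
    let Q : ∀ a, Γ(Sl s, S ⁻¹ᵁ B a) := fun a => resR le_top q
    have hQ : ∀ a, T.app _ (Q a) = u a := fun a => by
      refine Eq.trans ?_ (hG a)
      rw [← hq]
      show T.app _ (resR le_top q) = resR (le_top : T ⁻¹ᵁ S ⁻¹ᵁ B a ≤ ⊤) (T.app ⊤ q)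
      rw [← pl_app T, pl_resR]
      rfl
    have hUQ : ∀ a, IsUnit (Q a) := fun a => by
      refine isUnit_of_app T T.surjective _ ?_
      rw [hQ a]
      exact (hUh a).map _
    let h1 : ∀ a, Γ(Sl s, S ⁻¹ᵁ B a) := fun a => ((hUQ a).unit⁻¹ : (Γ(Sl s, S ⁻¹ᵁ B a))ˣ) * h a
    have hh1 : ∀ a, T.app _ (h1 a) = 1 := fun a => by
      rw [map_mul, show T.app _ (h a) = T.app _ (Q a) from (hQ a).symm, ← map_mul, IsUnit.val_inv_mul, map_one]
    have hy := fun a => ((hS s).ker _ (hAff a) (h1 a - 1)).1 (by rw [map_sub, hh1, map_one, sub_self])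
    choose y hy using hy
    have hQQ : ∀ a b, resR (hle₂ a b) (Q b) = resR (hle₁ a b) (Q a) := fun a b => by
      simp only [Q, resR_resR]
    have hrel1 : ∀ a b, resR (hle₂ a b) (h1 b) = S.app _ (g a b) * resR (hle₁ a b) (h1 a) := by
      intro a b
      refine ((hUQ a).map (resR (hle₁ a b))).mul_left_cancel ?_
      rw [mul_left_comm]
      nth_rw 1 [← hQQ a b]
      rw [← map_mul, ← map_mul, show Q b * h1 b = h b by rw [← mul_assoc, IsUnit.mul_val_inv, one_mul],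
        show Q a * h1 a = h a by rw [← mul_assoc, IsUnit.mul_val_inv, one_mul], hrel]
    refine ⟨fun a => pl (is s) (show σ₀ s ⁻¹ᵁ i ⁻¹ᵁ B a ≤ is s ⁻¹ᵁ S ⁻¹ᵁ B a by
      rw [← Scheme.Hom.comp_preimage, hi]; exact le_rfl) (y a), fun a b => ?_⟩
    let W := S ⁻¹ᵁ (B a ⊓ B b)
    let ew : Γ(Sl s, W) := resR le_top εS
    have hew : ew * ew = 0 := by rw [← map_mul, (hS s).sq, map_zero]
    have hSe : S.app _ (resR (le_top : B a ⊓ B b ≤ ⊤) e) = ew := by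
      rw [← pl_app S, pl_resR]
      rfl
    have key : resR le_top εS * (S.app _ (x a b) - (resR (hle₂ a b) (y b) - resR (hle₁ a b) (y a))) = 0 := by
      have e1 := congrArg (S.app _) (hx a b)
      have e2 := congrArg (resR (hle₁ a b)) (hy a)
      have e3 := congrArg (resR (hle₂ a b)) (hy b)
      simp only [map_sub, map_one, map_mul, resR_resR, hSe] at e1 e2 e3
      show ew * _ = 0
      linear_combination -hrel1 a b - resR (hle₁ a b) (h1 a) * e1 + e3 - e2 - S.app _ (x a b) * ew * e2 -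
        S.app _ (x a b) * resR (hle₁ a b) (y a) * hew
    have hW : σ₀ s ⁻¹ᵁ i ⁻¹ᵁ B a ⊓ σ₀ s ⁻¹ᵁ i ⁻¹ᵁ B b ≤ is s ⁻¹ᵁ W := by
      show _ ≤ (is s ≫ S) ⁻¹ᵁ (B a ⊓ B b)
      rw [← hi]
      exact le_of_eq rfl
    have h0 := congrArg (resR hW) (((hS s).ann _ ((hBB a b).preimage S) _).1 key)
    rw [resR_app, map_sub, map_sub, map_zero, sub_eq_zero, pl_resR, pl_resR, ← pl_app S,
      pl_pl S (is s) (le_refl (S ⁻¹ᵁ (B a ⊓ B b))) hW (show _ ≤ (is s ≫ S) ⁻¹ᵁ (B a ⊓ B b) from hW)] at h0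
    show (σ₀ s).appLE _ _ _ (pl i _ (x a b)) = _
    rw [show (σ₀ s).appLE _ _ _ = CommRingCat.ofHom (pl (σ₀ s) _) from rfl]
    have hW' : σ₀ s ⁻¹ᵁ i ⁻¹ᵁ B a ⊓ σ₀ s ⁻¹ᵁ i ⁻¹ᵁ B b ≤ (σ₀ s ≫ i) ⁻¹ᵁ (B a ⊓ B b) := le_of_eq rfl
    refine (pl_pl i (σ₀ s) _ _ hW' _).trans ((pl_congr (hi s) hW' hW _).trans (h0.trans ?_))
    rw [resR_pl, resR_pl]
  obtain ⟨H, hH'⟩ := hH c hcoc hsl
  have hlift : ∀ a, ∃ t : Γ(P, B a), i.app _ t = H a := fun a => i.app_surjective _ (hB a) _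
  choose t ht using hlift
  let ne : ∀ a, Γ(L, B a) := fun a => (1 - resR le_top e * t a) • f a
  have hne : ∀ a, InvX.IsFrame (ne a) := fun a => (hf a).isUnit_smul
    (IsUnit.of_mul_eq_one (1 + resR le_top e * t a) (by linear_combination -(t a) ^ 2 * hee (B a)))
  obtain ⟨F, hF, -⟩ := AModX.existsUnique_glue (M := L) (V := ⊤) B (fun _ => le_top) (fun z _ => hcov z) ne
    fun a b => by
      let ta := resR (inf_le_left : B a ⊓ B b ≤ B a) (t a)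
      let tb := resR (inf_le_right : B a ⊓ B b ≤ B b) (t b)
      have hz : resR le_top e * (x a b - (tb - ta)) = 0 := by
        refine (hP.ann _ (hBB a b) _).2 ?_
        have hle : i ⁻¹ᵁ B a ⊓ i ⁻¹ᵁ B b = i ⁻¹ᵁ (B a ⊓ B b) := (Scheme.Hom.preimage_inf i).symm
        have h1 := congrArg (resR hle.ge) (hH' a b)
        simp only [c, resR_pl, pl_app, map_sub, ← ht, resR_app] at h1
        rw [map_sub, map_sub, ← pl_app i, ← pl_app i, ← pl_app i, pl_resR, pl_resR, pl_app, h1, sub_self]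
      have hg' := hx a b
      show AModX.res L inf_le_left (ne a) = AModX.res L inf_le_right (ne b)
      simp only [ne, AModX.res_smul, map_sub, map_one, map_mul, resR_resR]
      rw [hg a b, ← mul_smul]
      congr 1
      linear_combination -(1 - resR le_top e * tb) * hg' - hz + tb * x a b * hee (B a ⊓ B b)
  refine triv_of_frame (e := F) (isFrame_of_germwise fun z _ => ?_)
  obtain ⟨a, ha⟩ := hcov z
  refine ⟨B a, le_top, ha, ?_⟩
  rw [hF]
  exact hne a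

end Groth.Agent.AbSchX.CubeBase
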