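import Groth.Agent.AbSchX.CubeBase.Global
import Groth.Agent.AbSchX.CubeBase.InvDescend
import Groth.Agent.AbSchX.CubeBase.FieldDescend
import Groth.Agent.ConsPropLib.NoethApprox
import Groth.Agent.ConsPropLib.Approx
import Groth.Agent.ConsPropLib.CoreProper
import Groth.Agent.LimSm.Flat

/-! A proper flat scheme with a section over a limit of affine schemes comes from a stage. -/

set_option autoImplicit false
set_option linter.style.haveILetI false
universe u

open CategoryTheory CategoryTheory.Limits AlgebraicGeometry TopologicalSpace Opposite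

namespace Groth.Agent.AbSchX.CubeBase

open Groth.Agent.H23 Groth.Agent.H23.TrivBasic Groth.Agent.MorLib

variable {I : Type u} [SmallCategory I] (D : I ⥤ Scheme.{u}) (c : Cone D)

/-- A proper flat model at a stage, with a section. -/
structure Stg {X : Scheme.{u}} (pX : X ⟶ c.pt) (x : c.pt ⟶ X) (i : I) where
  /-- The model. -/
  Xi : Scheme.{u}
  /-- Its structure morphism. -/
  f : Xi ⟶ D.obj i
  /-- Its section. -/
  xi : D.obj i ⟶ Xi
  /-- The projection. -/
  q : X ⟶ Xi
  sect_comp : xi ≫ f = 𝟙 _
  sq : IsPullback q pX f (c.π.app i)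
  comp_q : x ≫ q = c.π.app i ≫ xi
  proper : IsProper f
  flat : Flat f
  lfp : LocallyOfFinitePresentation f

namespace Stg

variable {D c} {X : Scheme.{u}} {pX : X ⟶ c.pt} {x : c.pt ⟶ X}

attribute [instance] Stg.proper Stg.flat Stg.lfp

/-- A model at a later stage. -/
noncomputable def push {i : I} (a : Stg D c pX x i) (hx : x ≫ pX = 𝟙 c.pt) {j : I} (φ : j ⟶ i) : Stg D c pX x j where
  Xi := pullback a.f (D.map φ)
  f := pullback.snd a.f (D.map φ)
  xi := sect a.f (D.map φ) a.xi a.sect_comp
  q := pullback.lift a.q (pX ≫ c.π.app j) (by rw [Category.assoc, c.w]; exact a.sq.w)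
  sect_comp := sect_snd _ _ _ _
  sq := by
    refine IsPullback.of_right ?_ (pullback.lift_snd _ _ _) (IsPullback.of_hasPullback a.f (D.map φ))
    rw [pullback.lift_fst, c.w]
    exact a.sq
  comp_q := by
    refine pullback.hom_ext ?_ ?_
    · exact (Category.assoc _ _ _).trans ((congrArg (x ≫ ·) (pullback.lift_fst _ _ _)).trans (a.comp_q.trans
        ((congrArg (· ≫ a.xi) (c.w φ)).symm.trans ((Category.assoc _ _ _).trans
          ((congrArg (c.π.app j ≫ ·) (pullback.lift_fst _ _ _).symm).trans (Category.assoc _ _ _).symm)))))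
    · exact (Category.assoc _ _ _).trans ((congrArg (x ≫ ·) (pullback.lift_snd _ _ _)).trans
        ((Category.assoc _ _ _).symm.trans ((congrArg (· ≫ c.π.app j) hx).trans ((Category.id_comp _).trans
          ((Category.comp_id _).symm.trans ((congrArg (c.π.app j ≫ ·) (pullback.lift_snd _ _ _).symm).trans
            (Category.assoc _ _ _).symm))))))
  proper := inferInstance
  flat := inferInstance
  lfp := inferInstance

theorem push_q_fst {i : I} (a : Stg D c pX x i) (hx : x ≫ pX = 𝟙 c.pt) {j : I} (φ : j ⟶ i) :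
    (a.push hx φ).q ≫ pullback.fst a.f (D.map φ) = a.q := pullback.lift_fst _ _ _

end Stg

variable {D c} [IsCofiltered I] (hc : IsLimit c) (hA : ∀ i, IsAffine (D.obj i))

include hc hA in
/-- A proper flat scheme with a section has a model at some stage. -/
theorem exists_stg {X : Scheme.{u}} (pX : X ⟶ c.pt) [IsProper pX] [Flat pX] [LocallyOfFinitePresentation pX]
    (x : c.pt ⟶ X) (hx : x ≫ pX = 𝟙 c.pt) : ∃ i, Nonempty (Stg D c pX x i) := by
  haveI := hA
  have hAff : ∀ {i j : I} (a : i ⟶ j), IsAffineHom (D.map a) := fun a => isAffineHom_of_isAffine _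
  obtain ⟨i, Xi, fi, g, hm⟩ := ConsPropLib.hasModel hc pX
  have := hm.lfp; have := hm.qc; have := hm.qs
  have := hm.compactSpace; have := hm.quasiSeparatedSpace
  obtain ⟨j, φ, hP⟩ := ConsPropLib.core_isProper I D c hc (fun a b f => hAff f) i (hA i) fi inferInstance
    inferInstance hm.lfp (Desc.of_two @IsProper hm.sq (IsPullback.of_hasPullback _ _) inferInstance)
  have hm' := hm.pushed φ
  have := hm'.lfp
  have := hm'.compactSpace; have := hm'.quasiSeparatedSpace
  haveI : MorphismProperty.RespectsIso (@Flat : MorphismProperty Scheme.{u}) :=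
    MorphismProperty.IsStableUnderBaseChange.respectsIso
  obtain ⟨k, ψ, hF⟩ := LimSm.core_flat I D c hc (fun a b f => hAff f) j (hA j) _ inferInstance inferInstance
    hm'.lfp (Desc.of_two (@Flat : MorphismProperty Scheme.{u}) hm'.sq (IsPullback.of_hasPullback _ _) inferInstance)
  have hm'' := hm'.pushed ψ
  let fk := pullback.snd (pullback.snd fi (D.map φ)) (D.map ψ)
  haveI : IsProper fk := by haveI := hP; exact inferInstanceAs (IsProper (pullback.snd _ _))
  haveI : Flat fk := hF
  haveI : LocallyOfFinitePresentation fk := hm''.lfp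
  -- the section
  haveI : ∀ l : Over k, CompactSpace ((Over.forget k ⋙ D).obj l) := fun l =>
    inferInstanceAs (CompactSpace (D.obj l.left))
  haveI : ∀ l : Over k, QuasiSeparatedSpace ((Over.forget k ⋙ D).obj l) := fun l =>
    inferInstanceAs (QuasiSeparatedSpace (D.obj l.left))
  haveI : ∀ {l l' : Over k} (a : l ⟶ l'), IsAffineHom ((Over.forget k ⋙ D).map a) := fun a => hAff _
  let gk := (hm.pushed φ).push ψ
  let t : Over.forget k ⋙ D ⟶ (Functor.const _).obj (D.obj k) :=
    { app := fun l => D.map l.hom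
      naturality := fun l l' a => by
        show D.map a.left ≫ D.map l'.hom = D.map l.hom ≫ 𝟙 _
        rw [Category.comp_id, ← D.map_comp, Over.w a] }
  have hs : (x ≫ gk) ≫ fk = c.π.app k := by
    rw [Category.assoc]
    show x ≫ gk ≫ fk = _
    rw [hm''.sq.w, ← Category.assoc, hx, Category.id_comp]
  obtain ⟨l, σ, hσ, hσ'⟩ := Scheme.exists_π_app_comp_eq_of_locallyOfFinitePresentation (Over.forget k ⋙ D) t fk
    (c.whisker (Over.forget k)) ((Functor.Initial.isLimitWhiskerEquiv (Over.forget k) c).symm hc) (x ≫ gk) (by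
      ext l
      show c.π.app l.left ≫ D.map l.hom = (x ≫ gk) ≫ fk
      rw [hs, c.w])
  let q : X ⟶ pullback fk (D.map l.hom) := hm''.push l.hom
  refine ⟨l.left, ⟨{
    Xi := pullback fk (D.map l.hom)
    f := pullback.snd fk (D.map l.hom)
    xi := pullback.lift σ (𝟙 _) (by rw [Category.id_comp]; exact hσ')
    q := q
    sect_comp := pullback.lift_snd _ _ _
    sq := (hm''.pushed l.hom).sq
    comp_q := ?_
    proper := inferInstance
    flat := inferInstance
    lfp := inferInstance }⟩⟩
  refine pullback.hom_ext ?_ ?_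
  · exact (Category.assoc _ _ _).trans ((congrArg (x ≫ ·) (hm''.push_fst l.hom)).trans (hσ.symm.trans
      ((congrArg (c.π.app l.left ≫ ·) (pullback.lift_fst _ _ _).symm).trans (Category.assoc _ _ _).symm)))
  · exact (Category.assoc _ _ _).trans ((congrArg (x ≫ ·) (hm''.push_snd l.hom)).trans
      ((Category.assoc _ _ _).symm.trans ((congrArg (· ≫ c.π.app l.left) hx).trans ((Category.id_comp _).trans
        ((Category.comp_id _).symm.trans ((congrArg (c.π.app l.left ≫ ·) (pullback.lift_snd _ _ _).symm).trans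
          (Category.assoc _ _ _).symm))))))

section Prod

variable {X Y : Scheme.{u}} {pX : X ⟶ c.pt} {pY : Y ⟶ c.pt} {x : c.pt ⟶ X} {y : c.pt ⟶ Y}
  {i : I} (a : Stg D c pX x i) (b : Stg D c pY y i) (hx : x ≫ pX = 𝟙 c.pt) (hy : y ≫ pY = 𝟙 c.pt)

/-- The projection of the product to the product of the models. -/
noncomputable def qP : pullback pX pY ⟶ pullback a.f b.f :=
  pullback.map _ _ _ _ a.q b.q (c.π.app i) a.sq.w.symm b.sq.w.symm

omit [IsCofiltered I] in
theorem qP_fst : qP a b ≫ pullback.fst a.f b.f = pullback.fst pX pY ≫ a.q := pullback.lift_fst _ _ _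

omit [IsCofiltered I] in
theorem qP_snd : qP a b ≫ pullback.snd a.f b.f = pullback.snd pX pY ≫ b.q := pullback.lift_snd _ _ _

omit [IsCofiltered I] in
theorem isPullback_qP : IsPullback (qP a b) (prodHom pX pY) (prodHom a.f b.f) (c.π.app i) := by
  have h1 : IsPullback (pullback.snd pX pY ≫ b.q) (pullback.fst pX pY) b.f (a.q ≫ a.f) := by
    rw [a.sq.w]
    exact (IsPullback.of_hasPullback pX pY).flip.paste_horiz b.sq
  rw [← qP_snd a b] at h1
  exact (IsPullback.of_right h1 (qP_fst a b) (IsPullback.of_hasPullback a.f b.f).flip).paste_vert a.sq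

omit [IsCofiltered I] in
theorem slice₁_qP : slice₁ pX pY x hx ≫ qP a b = b.q ≫ slice₁ a.f b.f a.xi a.sect_comp := by
  apply pullback.hom_ext
  · rw [Category.assoc, qP_fst, slice₁, pullback.lift_fst_assoc, Category.assoc, a.comp_q, slice₁,
      Category.assoc, pullback.lift_fst, ← Category.assoc, ← b.sq.w, Category.assoc]
  · rw [Category.assoc, qP_snd, slice₁, pullback.lift_snd_assoc, Category.id_comp, slice₁, Category.assoc,
      pullback.lift_snd, Category.comp_id]

omit [IsCofiltered I] in
theorem slice₂_qP : slice₂ pX pY y hy ≫ qP a b = a.q ≫ slice₂ a.f b.f b.xi b.sect_comp := by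
  apply pullback.hom_ext
  · rw [Category.assoc, qP_fst, slice₂, pullback.lift_fst_assoc, Category.id_comp, slice₂, Category.assoc,
      pullback.lift_fst, Category.comp_id]
  · rw [Category.assoc, qP_snd, slice₂, pullback.lift_snd_assoc, Category.assoc, b.comp_q, slice₂,
      Category.assoc, pullback.lift_snd, ← Category.assoc, ← a.sq.w, Category.assoc]

omit [IsCofiltered I] in
theorem qP_push {j : I} (φ : j ⟶ i) :
    qP (a.push hx φ) (b.push hy φ) ≫ prodMap a.f b.f (D.map φ) = qP a b := by
  apply pullback.hom_ext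
  · rw [qP_fst]
    refine (Category.assoc _ _ _).trans ((congrArg (_ ≫ ·) (prodMap_fst a.f b.f (D.map φ))).trans ?_)
    refine (Category.assoc _ _ _).symm.trans ((congrArg (· ≫ _) (qP_fst (a.push hx φ) (b.push hy φ))).trans ?_)
    exact (Category.assoc _ _ _).trans (congrArg (_ ≫ ·) (a.push_q_fst hx φ))
  · rw [qP_snd]
    refine (Category.assoc _ _ _).trans ((congrArg (_ ≫ ·) (prodMap_snd a.f b.f (D.map φ))).trans ?_)
    refine (Category.assoc _ _ _).symm.trans ((congrArg (· ≫ _) (qP_snd (a.push hx φ) (b.push hy φ))).trans ?_)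
    exact (Category.assoc _ _ _).trans (congrArg (_ ≫ ·) (b.push_q_fst hy φ))

end Prod

end Groth.Agent.AbSchX.CubeBase
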